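import Mathlib

/-! # Approximating decompositions modulo a finitely generated ideal in the radical -/

set_option autoImplicit false
universe u
set_option linter.style.haveILetI false

namespace Groth.Agent.GabberRig6

/-- `A → A'` looks like the completion along `I`. -/
structure Approx {A A' : Type u} [CommRing A] [CommRing A'] [Algebra A A'] (I : Ideal A) : Prop where
  jac : I.map (algebraMap A A') ≤ Ideal.jacobson ⊥
  lift : ∀ (m : ℕ) (a' : A'), ∃ a : A, a' - algebraMap A A' a ∈ (I ^ m).map (algebraMap A A')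
  contract : ∀ (m : ℕ) (a : A), algebraMap A A' a ∈ (I ^ m).map (algebraMap A A') → a ∈ I ^ m

variable {A A' : Type u} [CommRing A] [CommRing A'] [Algebra A A'] {I : Ideal A}

theorem Approx.exists_of_mem_map (h : Approx (A' := A') I) (m : ℕ) (J : Ideal A) {x : A'}
    (hx : x ∈ J.map (algebraMap A A')) : ∃ a ∈ J, x - algebraMap A A' a ∈ (I ^ m).map (algebraMap A A') := by
  induction hx using Submodule.span_induction with
  | mem x hx =>
    obtain ⟨a, ha, rfl⟩ := hx
    exact ⟨a, ha, by simp⟩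
  | zero => exact ⟨0, J.zero_mem, by simp⟩
  | add x y _ _ hx hy =>
    obtain ⟨a, ha, ha'⟩ := hx
    obtain ⟨b, hb, hb'⟩ := hy
    refine ⟨a + b, J.add_mem ha hb, ?_⟩
    rw [map_add, add_sub_add_comm]
    exact Ideal.add_mem _ ha' hb'
  | smul c x _ hx =>
    obtain ⟨a, ha, ha'⟩ := hx
    obtain ⟨c₀, hc⟩ := h.lift m c
    refine ⟨c₀ * a, J.mul_mem_left _ ha, ?_⟩
    rw [smul_eq_mul, map_mul, show c * x - algebraMap A A' c₀ * algebraMap A A' a =
      c * (x - algebraMap A A' a) + (c - algebraMap A A' c₀) * algebraMap A A' a by ring]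
    exact Ideal.add_mem _ (Ideal.mul_mem_left _ _ ha') (Ideal.mul_mem_right _ _ hc)

theorem Approx.comap_map_le (h : Approx (A' := A') I) (m : ℕ) {J : Ideal A} (hJ : I ^ m ≤ J) :
    (J.map (algebraMap A A')).comap (algebraMap A A') ≤ J := fun a ha => by
  obtain ⟨b, hb, hb'⟩ := h.exists_of_mem_map m J ha
  rw [← map_sub] at hb'
  simpa using J.add_mem (hJ (h.contract m _ hb')) hb

/-- Points of `V(I)` lift. -/
theorem Approx.exists_prime (h : Approx (A' := A') I) (x : PrimeSpectrum A) (hx : I ≤ x.asIdeal) :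
    ∃ x' : PrimeSpectrum A', PrimeSpectrum.comap (algebraMap A A') x' = x ∧
      I.map (algebraMap A A') ≤ x'.asIdeal := by
  have hcm : (x.asIdeal.map (algebraMap A A')).comap (algebraMap A A') = x.asIdeal :=
    le_antisymm (h.comap_map_le 1 (by rwa [pow_one])) Ideal.le_comap_map
  haveI := x.isPrime
  obtain ⟨Q, hQ, hQc⟩ := Ideal.comap_map_eq_self_iff_of_isPrime x.asIdeal |>.mp hcm
  exact ⟨⟨Q, hQ⟩, PrimeSpectrum.ext hQc, Ideal.map_le_iff_le_comap.mpr (hQc ▸ hx)⟩

/-- Approximating two ideals with product zero. -/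
theorem Approx.exists_approx (h : Approx (A' := A') I) (hI : I.FG) (hjac : I ≤ Ideal.jacobson ⊥)
    (P Q : Ideal A') (hP : P.FG) (hQ : Q.FG) (hPQ : P * Q = ⊥) (L : ℕ)
    (hL : (I ^ L).map (algebraMap A A') ≤ P ⊔ Q) :
    ∃ P' Q' : Ideal A, P'.FG ∧ Q'.FG ∧ I ^ L ≤ P' ⊔ Q' ∧ P' * Q' ≤ I * (P' ⊔ Q') ^ 2 ∧
      P'.map (algebraMap A A') ≤ P ⊔ (I ^ (2 * L + 1)).map (algebraMap A A') ∧
      Q'.map (algebraMap A A') ≤ Q ⊔ (I ^ (2 * L + 1)).map (algebraMap A A') ∧
      P ≤ P'.map (algebraMap A A') ⊔ (I ^ (2 * L + 1)).map (algebraMap A A') ∧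
      Q ≤ Q'.map (algebraMap A A') ⊔ (I ^ (2 * L + 1)).map (algebraMap A A') := by
  classical
  let m := 2 * L + 1
  let f := algebraMap A A'
  have approx : ∀ P : Ideal A', P.FG → ∃ P' : Ideal A, P'.FG ∧ P'.map f ≤ P ⊔ (I ^ m).map f ∧
      P ≤ P'.map f ⊔ (I ^ m).map f := by
    rintro _ ⟨s, rfl⟩
    choose a ha using fun x : A' => h.lift m x
    refine ⟨Ideal.span (s.image a : Finset A), ⟨_, rfl⟩, ?_, ?_⟩
    · rw [Ideal.map_span, Ideal.span_le]
      rintro _ ⟨b, hb, rfl⟩
      obtain ⟨x, hx, rfl⟩ := Finset.mem_image.mp hb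
      rw [SetLike.mem_coe, show f (a x) = x - (x - f (a x)) by ring]
      exact Ideal.sub_mem _ (Ideal.mem_sup_left (Ideal.subset_span hx)) (Ideal.mem_sup_right (ha x))
    · refine Ideal.span_le.mpr fun x hx => ?_
      rw [SetLike.mem_coe, show x = f (a x) + (x - f (a x)) by ring]
      exact Ideal.add_mem _ (Ideal.mem_sup_left (Ideal.mem_map_of_mem f
        (Ideal.subset_span (Finset.mem_image_of_mem a hx)))) (Ideal.mem_sup_right (ha x))
  obtain ⟨P', hP', hP1, hP2⟩ := approx P hP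
  obtain ⟨Q', hQ', hQ1, hQ2⟩ := approx Q hQ
  have hK : I ^ L ≤ P' ⊔ Q' := by
    have h1 : I ^ L ≤ (P' ⊔ Q') ⊔ I ^ m := by
      refine le_trans ?_ (h.comap_map_le m le_sup_right)
      rw [← Ideal.map_le_iff_le_comap, Ideal.map_sup, Ideal.map_sup]
      exact hL.trans (sup_le (hP2.trans (sup_le (le_sup_left.trans le_sup_left) le_sup_right))
        (hQ2.trans (sup_le (le_sup_right.trans le_sup_left) le_sup_right)))
    refine Submodule.le_of_le_smul_of_le_jacobson_bot hI.pow hjac (h1.trans (sup_le_sup_left ?_ _))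
    rw [smul_eq_mul, ← pow_succ']
    exact Ideal.pow_le_pow_right (by omega)
  refine ⟨P', Q', hP', hQ', hK, ?_, hP1, hQ1, hP2, hQ2⟩
  have h2 : P' * Q' ≤ I ^ m := by
    refine le_trans ?_ (h.comap_map_le m le_rfl)
    rw [← Ideal.map_le_iff_le_comap, Ideal.map_mul]
    refine (Ideal.mul_mono hP1 hQ1).trans ?_
    rw [Ideal.sup_mul, Ideal.mul_sup, hPQ]
    exact sup_le (sup_le bot_le Ideal.mul_le_right) Ideal.mul_le_left
  refine h2.trans ?_
  rw [show m = 1 + L * 2 by omega, pow_add, pow_one, pow_mul]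
  exact Ideal.mul_mono le_rfl (Ideal.pow_right_mono hK 2)

/-- A valuation ring dominating a prime of a ring with `I` in the radical. -/
theorem exists_valuation (hjac : I ≤ Ideal.jacobson ⊥) (p : PrimeSpectrum A) :
    ∃ (R : Type u) (_ : CommRing R) (_ : IsDomain R) (_ : ValuationRing R) (ρ : A →+* R),
      RingHom.ker ρ = p.asIdeal ∧ ∀ a ∈ I, ρ a ∈ IsLocalRing.maximalIdeal R := by
  haveI := p.isPrime
  let K := FractionRing (A ⧸ p.asIdeal)
  let φ : A →+* K := (algebraMap (A ⧸ p.asIdeal) K).comp (Ideal.Quotient.mk p.asIdeal)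
  have hker : RingHom.ker φ = p.asIdeal := by
    rw [← RingHom.comap_ker, (RingHom.injective_iff_ker_eq_bot _).mp (IsFractionRing.injective (A ⧸ p.asIdeal) K),
      ← RingHom.ker_eq_comap_bot, Ideal.mk_ker]
  have hne : I.map φ.rangeRestrict ≠ ⊤ := by
    intro e
    obtain ⟨M, hM, hle⟩ := Ideal.exists_le_maximal p.asIdeal p.isPrime.ne_top
    have hker' : RingHom.ker φ.rangeRestrict = p.asIdeal :=
      (Ideal.ext fun a => by simp [RingHom.mem_ker, Subtype.ext_iff]).trans hker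
    have h1 : (I.map φ.rangeRestrict).comap φ.rangeRestrict ≤ M := by
      rw [Ideal.comap_map_of_surjective _ φ.rangeRestrict_surjective, ← RingHom.ker_eq_comap_bot, hker']
      exact sup_le (hjac.trans (sInf_le ⟨bot_le, hM⟩)) hle
    rw [e, Ideal.comap_top] at h1
    exact hM.ne_top (top_le_iff.mp h1)
  obtain ⟨B, hB, hBI⟩ := Ideal.image_subset_nonunits_valuationSubring (I.map φ.rangeRestrict) hne
  let ρ : A →+* B := φ.codRestrict B.toSubring fun a => hB ⟨a, rfl⟩
  refine ⟨B, inferInstance, inferInstance, inferInstance, ρ, ?_, fun a ha => ?_⟩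
  · exact (Ideal.ext fun a => by simp [RingHom.mem_ker, ρ, Subtype.ext_iff]).trans hker
  · exact (ValuationSubring.coe_mem_nonunits_iff (a := ρ a)).mp
      (hBI ⟨φ.rangeRestrict a, Ideal.mem_map_of_mem _ ha, rfl⟩)

/-- In a valuation ring the image of an ideal is not contained in a higher power, unless trivial. -/
theorem map_pow_not_le {R : Type u} [CommRing R] [IsDomain R] [ValuationRing R] (ρ : A →+* R) (hI : I.FG)
    (hm : ∀ a ∈ I, ρ a ∈ IsLocalRing.maximalIdeal R) {a : A} (ha : a ∈ I) (ha0 : ρ a ≠ 0)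
    {L m : ℕ} (hLm : L < m) : ¬ (I ^ L).map ρ ≤ (I ^ m).map ρ := by
  intro hle
  rw [Ideal.map_pow, Ideal.map_pow] at hle
  obtain ⟨c, hc⟩ := (IsBezout.isPrincipal_of_FG _ (hI.map ρ)).principal
  rw [hc, Ideal.submodule_span_eq, Ideal.span_singleton_pow, Ideal.span_singleton_pow,
    Ideal.span_singleton_le_span_singleton] at hle
  have hc0 : c ≠ 0 := by
    rintro rfl
    exact ha0 (by simpa [hc, Ideal.submodule_span_eq] using Ideal.mem_map_of_mem ρ ha)
  have hcm : c ∈ IsLocalRing.maximalIdeal R := by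
    have : I.map ρ ≤ IsLocalRing.maximalIdeal R := Ideal.map_le_iff_le_comap.mpr hm
    rw [hc] at this
    exact this (Ideal.mem_span_singleton_self c)
  have h1 : c ^ (L + 1) ∣ c ^ L := (pow_dvd_pow c hLm).trans hle
  obtain ⟨d, hd⟩ := h1
  have : c * d = 1 := mul_left_cancel₀ (pow_ne_zero L hc0) (by rw [mul_one, ← mul_assoc, ← pow_succ, ← hd])
  exact (IsLocalRing.mem_maximalIdeal _).mp hcm (.of_mul_eq_one _ this)

end Groth.Agent.GabberRig6
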