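import Groth.Agent.Lib.GabberRig6.Model
import Mathlib

/-! # Base change of direct images along an approximation -/

set_option autoImplicit false
universe u
set_option backward.isDefEq.respectTransparency.types false
set_option linter.style.haveILetI false

open CategoryTheory CategoryTheory.Limits AlgebraicGeometry Opposite IsLocalRing Groth.Agent.Hens

namespace Groth.Agent.GabberRig6

open Groth.Agent.ProperPush24 (HasLifts)

/-- Elements of a strict henselization lift to affine etale schemes. -/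
theorem hasLifts_hs (R : Type u) [CommRing R] (Ω : Type u) [Field Ω] [Algebra R Ω] :
    HasLifts (Spec.map (CommRingCat.ofHom (algebraMap R (Hs R Ω)))) := by
  intro c
  obtain ⟨i, x, hx⟩ := Hs.exists_of ((Scheme.ΓSpecIso (CommRingCat.of (Hs R Ω))).hom c : Hs R Ω)
  obtain ⟨g, hg, hlift⟩ := Hs.exists_away i ({()} : Finset Unit) (fun _ => x)
  obtain ⟨y, hy'⟩ := hlift () (Finset.mem_singleton_self ())
  let S := Localization.Away g
  haveI : Algebra.Etale i.S S := Algebra.Etale.of_isLocalizationAway g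
  haveI : Algebra.Etale R S := Algebra.Etale.comp R i.S S
  have hv : AlgebraicGeometry.Etale (Spec.map (CommRingCat.ofHom (algebraMap R S))) :=
    (HasRingHomProperty.Spec_iff (P := @AlgebraicGeometry.Etale)).2 (RingHom.etale_algebraMap.2 inferInstance)
  let ψ : S →+* Hs R Ω := Hs.awayToHs i g hg
  refine ⟨⟨MorphismProperty.Over.mk ⊤ _ hv, Spec.map (CommRingCat.ofHom ψ), ?_,
    inferInstanceAs (IsAffine (Spec (CommRingCat.of S)))⟩, (Scheme.ΓSpecIso (CommRingCat.of S)).inv y, ?_⟩
  · show Spec.map (CommRingCat.ofHom ψ) ≫ Spec.map (CommRingCat.ofHom (algebraMap R S)) = _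
    rw [← Spec.map_comp]
    congr 1
    refine CommRingCat.hom_ext (RingHom.ext fun r => ?_)
    show ψ (algebraMap R S r) = algebraMap R (Hs R Ω) r
    rw [IsScalarTower.algebraMap_apply R i.S S, Hs.awayToHs_algebraMap, ← IsScalarTower.algebraMap_apply]
    exact (Hs.of i).commutes r
  · show (Spec.map (CommRingCat.ofHom ψ)).appTop ((Scheme.ΓSpecIso (CommRingCat.of S)).inv y) = c
    rw [← ConcreteCategory.comp_apply, ← Scheme.ΓSpecIso_inv_naturality, ConcreteCategory.comp_apply]
    have : ψ y = (Scheme.ΓSpecIso (CommRingCat.of (Hs R Ω))).hom c := by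
      rw [← hx, ← hy']; rfl
    rw [show (CommRingCat.ofHom ψ) y = ψ y from rfl, this]
    exact Iso.hom_inv_id_apply _ _

variable {A A' : Type u} [CommRing A] [CommRing A'] [Algebra A A'] {I : Ideal A}

set_option maxHeartbeats 2000000 in
/-- Base change of direct images along the open immersion. -/
theorem isIso_baseChange0Sh (h : Approx (A' := A') I) (hI : I.FG)
    (U : (Spec (CommRingCat.of A)).Opens) (hU : IsCompact (U : Set (Spec (CommRingCat.of A))))
    (hUI : ∀ x : Spec (CommRingCat.of A), x ∉ U → I ≤ x.asIdeal) (F : EtDesc.Sh (U : Scheme.{u})) :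
    IsIso (EtBC.baseChange0Sh U.ι (Spec.map (CommRingCat.ofHom (algebraMap A A')))
      ((Spec.map (CommRingCat.ofHom (algebraMap A A'))) ⁻¹ᵁ U).ι
      ((Spec.map (CommRingCat.ofHom (algebraMap A A'))) ∣_ U)
      (morphismRestrict_ι (Spec.map (CommRingCat.ofHom (algebraMap A A'))) U) F) := by
  let π := Spec.map (CommRingCat.ofHom (algebraMap A A'))
  have hsq : IsPullback (π ∣_ U) (π ⁻¹ᵁ U).ι U.ι π := isPullback_morphismRestrict π U
  haveI : CompactSpace U := isCompact_iff_compactSpace.mp hU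
  haveI : QuasiCompact U.ι := inferInstance
  haveI : QuasiCompact (π ⁻¹ᵁ U).ι := MorphismProperty.of_isPullback hsq ‹QuasiCompact U.ι›
  rw [EtStalk.Sets.isIso_iff_stalk]
  intro Ω _ _ ξ
  by_cases hy : π (ξ default) ∈ U
  · -- points of the open: an etale chart
    let ξ₁ : Spec (CommRingCat.of Ω) ⟶ (π ⁻¹ᵁ U : Scheme.{u}) := IsOpenImmersion.lift (π ⁻¹ᵁ U).ι ξ (by
      rw [Scheme.Opens.range_ι]
      rintro _ ⟨z, rfl⟩
      rw [Subsingleton.elim z default]
      exact hy)
    have hξ₁ : ξ₁ ≫ (π ⁻¹ᵁ U).ι = ξ := IsOpenImmersion.lift_fac _ _ _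
    have cY : IsPullback (π ∣_ U) (𝟙 (π ⁻¹ᵁ U : Scheme.{u})) (𝟙 (U : Scheme.{u})) (π ∣_ U) := IsPullback.of_vert_isIso ⟨by simp⟩
    have key := EtSets24.bijective_stalk_of_chart π U.ι (π ⁻¹ᵁ U).ι (π ∣_ U) hsq F
      (EtDesc.ofOpen (π ⁻¹ᵁ U)) (EtDesc.ofOpen U) (π ∣_ U) (morphismRestrict_ι π U) (𝟙 _) (𝟙 _)
      (IsKernelPair.id_of_mono U.ι) (𝟙 _) (π ∣_ U) cY
      (ProperSets24.isIso_baseChange0_proper (𝟙 (U : Scheme.{u})) _ (π ∣_ U) (𝟙 _) (π ∣_ U) cY) ξ₁
    rw [← hξ₁]
    exact key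
  -- points of `V(I)`: strictly henselian models
  let φ : CommRingCat.of A' ⟶ CommRingCat.of Ω := Spec.preimage ξ
  have hφ : Spec.map φ = ξ := Spec.map_preimage ξ
  letI : Algebra A' Ω := φ.hom.toAlgebra
  letI : Algebra A Ω := (φ.hom.comp (algebraMap A A')).toAlgebra
  haveI : IsScalarTower A A' Ω := IsScalarTower.of_algebraMap_eq fun _ => rfl
  have hI0 : ∀ a ∈ I, algebraMap A Ω a = 0 := fun a ha => by
    have h1 : algebraMap A A' a ∈ ((ξ default : Spec (CommRingCat.of A')) : PrimeSpectrum A').asIdeal := hUI _ hy ha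
    rw [← hφ] at h1
    have h2 : φ.hom (algebraMap A A' a) ∈ ((default : Spec (CommRingCat.of Ω)) : PrimeSpectrum Ω).asIdeal := h1
    rwa [Ideal.eq_bot_of_prime ((default : Spec (CommRingCat.of Ω)) : PrimeSpectrum Ω).asIdeal, Ideal.mem_bot] at h2
  obtain ⟨ψ, hψA, hψres, hH, happ⟩ := exists_hs_approx (Ω := Ω) h hI0
  let H := Hs A Ω
  let H' := Hs A' Ω
  haveI : IsSepClosed (ResidueField H) := by
    haveI : (RingHom.ker (algebraMap A Ω)).IsPrime := RingHom.ker_isPrime _
    obtain ⟨_, _, _, hsh⟩ := HensPt14.exists_isStrictHenselization (R := A) (K := Ω) (RingHom.ker (algebraMap A Ω)) (fun r => Iff.rfl)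
      (Localization.AtPrime (RingHom.ker (algebraMap A Ω)))
    exact hsh.isSepClosure.sep_closed
  haveI : IsSepClosed (ResidueField H') := by
    haveI : (RingHom.ker (algebraMap A' Ω)).IsPrime := RingHom.ker_isPrime _
    obtain ⟨_, _, _, hsh⟩ := HensPt14.exists_isStrictHenselization (R := A') (K := Ω) (RingHom.ker (algebraMap A' Ω)) (fun r => Iff.rfl)
      (Localization.AtPrime (RingHom.ker (algebraMap A' Ω)))
    exact hsh.isSepClosure.sep_closed
  let α := Spec.map (CommRingCat.ofHom (algebraMap A H))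
  let β := Spec.map (CommRingCat.ofHom (algebraMap A' H'))
  haveI : Flat α := (HasRingHomProperty.Spec_iff (P := @Flat)).2 (RingHom.flat_algebraMap_iff.2 inferInstance)
  haveI : Flat β := (HasRingHomProperty.Spec_iff (P := @Flat)).2 (RingHom.flat_algebraMap_iff.2 inferInstance)
  let sψ := Spec.map (CommRingCat.ofHom ψ)
  letI : Algebra H H' := ψ.toAlgebra
  let J : Ideal H := I.map (algebraMap A H)
  let Us : (Spec (CommRingCat.of H)).Opens := α ⁻¹ᵁ U
  have hUsc : IsCompact (Us : Set (Spec (CommRingCat.of H))) := QuasiCompact.isCompact_preimage _ U.2 hU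
  have hUsI : ∀ x : Spec (CommRingCat.of H), x ∉ Us → J ≤ x.asIdeal :=
    fun x hx => Ideal.map_le_iff_le_comap.mpr (hUI _ hx)
  refine (bijective_stalk_of_model π U.ι (π ⁻¹ᵁ U).ι (π ∣_ U) hsq F ξ α
    (hasLifts_hs A Ω) β ψ (Spec.map (CommRingCat.ofHom (HensPt14.resK (R := A) (K := Ω))))
    (Spec.map (CommRingCat.ofHom (HensPt14.resK (R := A') (K := Ω)))) ?_ ?_ ?_ ?_)
  · show Spec.map _ ≫ Spec.map _ = Spec.map _ ≫ Spec.map _
    rw [← Spec.map_comp, ← Spec.map_comp]
    exact congrArg Spec.map (CommRingCat.hom_ext (RingHom.ext fun r => (hψA r).symm))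
  · rw [← hφ]
    show Spec.map _ ≫ Spec.map _ ≫ Spec.map _ = _
    rw [← Spec.map_comp, ← Spec.map_comp]
    exact congrArg Spec.map (CommRingCat.hom_ext (RingHom.ext fun r => (Hs.res (R := A') (K := Ω)).commutes r))
  · show Spec.map _ ≫ Spec.map _ ≫ Spec.map _ = Spec.map _ ≫ Spec.map _
    rw [← Spec.map_comp, ← Spec.map_comp, ← Spec.map_comp]
    exact congrArg Spec.map (CommRingCat.hom_ext (RingHom.ext fun r => hψres r))
  intro θ hθsq
  let eU : (Us : Scheme.{u}) ≅ pullback U.ι α := (isPullback_morphismRestrict α U).isoPullback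
  have heU : eU.hom ≫ pullback.snd U.ι α = Us.ι := IsPullback.isoPullback_hom_snd _
  have hp : IsPullback (θ ≫ eU.inv) (pullback.snd (π ⁻¹ᵁ U).ι β) Us.ι sψ :=
    hθsq.of_iso (Iso.refl _) eU.symm (Iso.refl _) (Iso.refl _) (by simp) (by simp)
      (by simp [← heU]) (by simp [sψ])
  let e' := hp.isoIsPullback _ _ (isPullback_morphismRestrict sψ Us)
  have hθ : θ = e'.hom ≫ (sψ ∣_ Us) ≫ eU.hom := by
    rw [← Category.assoc, IsPullback.isoIsPullback_hom_fst, Category.assoc, Iso.inv_hom_id, Category.comp_id]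
  constructor
  · intro G
    rw [hθ]
    exact bijective_secPull_comp _ _ (bijective_secPull_of_isIso e'.hom)
      (bijective_secPull_comp _ _ (bijective_secPull hH happ (hI.map _) Us hUsc hUsI)
        (bijective_secPull_of_isIso eU.hom)) G
  · intro M hM hMθ w
    by_contra hw
    let C : Set (Spec (CommRingCat.of H)) := Us.ι '' (eU.hom ⁻¹' Mᶜ)
    have h0 : C = ∅ := eq_empty_of_preimage (A := H) (A' := H') hH.jac happ (hI.map _) (U := (Us : Set (Spec (CommRingCat.of H))))
      (W := C) hUsI (by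
        rintro _ ⟨x, hx, rfl⟩ y hy' hs
        refine ⟨⟨y, hy'⟩, ((Us.ι.isOpenEmbedding.isInducing.specializes_iff (x := x) (y := (⟨y, hy'⟩ : Us))).mp hs).mem_closed
          (hM.isClosed_compl.preimage eU.hom.continuous) hx, rfl⟩) (by
        refine Set.eq_empty_iff_forall_notMem.mpr fun z hz => ?_
        obtain ⟨x, hx, hxz⟩ := hz
        have hzU : sψ z ∈ Us := by
          show PrimeSpectrum.comap (algebraMap H H') z ∈ (Us : Set (Spec (CommRingCat.of H)))
          rw [← hxz]; exact x.2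
        refine hx ?_
        have hzx : (sψ ∣_ Us) ⟨z, hzU⟩ = x := Subtype.ext ((morphismRestrict_base_coe _ _ _).trans hxz.symm)
        rw [← hzx]
        have h3 := hMθ (e'.inv ⟨z, hzU⟩)
        rw [hθ, ← Scheme.Hom.comp_apply, Iso.inv_hom_id_assoc, Scheme.Hom.comp_apply] at h3
        exact h3)
    exact Set.eq_empty_iff_forall_notMem.mp h0 (Us.ι (eU.inv w)) ⟨eU.inv w, by
      show eU.hom (eU.inv w) ∉ M
      rwa [← Scheme.Hom.comp_apply, Iso.inv_hom_id], rfl⟩

end Groth.Agent.GabberRig6
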