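import Groth.Agent.Lib.GabberRig6.Alg
import Groth.Agent.Lib.HensProper6.General
import Groth.Agent.Lib.BlowUpExist.Proper
import Groth.Agent.Lib.EffCartier.Dense
import Mathlib

/-! # Splitting an open by blowing up -/

set_option autoImplicit false
universe u
set_option backward.isDefEq.respectTransparency.types false
set_option linter.style.haveILetI false

open CategoryTheory CategoryTheory.Limits AlgebraicGeometry TopologicalSpace IsLocalRing

namespace Groth.Agent.GabberRig6

variable {A : Type u} [CommRing A] {X : Scheme.{u}} (b : X ⟶ Spec (CommRingCat.of A))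

/-- The structure map to a stalk. -/
noncomputable def gS (x : X) : A →+* X.presheaf.stalk x :=
  ((Scheme.ΓSpecIso (CommRingCat.of A)).inv ≫ b.appTop ≫ X.presheaf.germ ⊤ x trivial).hom

lemma comap_gS (x : X) :
    (maximalIdeal (X.presheaf.stalk x)).comap (gS b x) = (show PrimeSpectrum A from b x).asIdeal := by
  ext a
  have h1 := Scheme.mem_basicOpen_top X (b.appTop ((Scheme.ΓSpecIso (CommRingCat.of A)).inv a)) x
  have h3 : X.basicOpen (b.appTop ((Scheme.ΓSpecIso (CommRingCat.of A)).inv a)) =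
      b ⁻¹ᵁ PrimeSpectrum.basicOpen a := by
    rw [← Scheme.preimage_basicOpen_top]
    exact congrArg (b ⁻¹ᵁ ·) (by simp [← basicOpen_eq_of_affine])
  rw [h3] at h1
  rw [Ideal.mem_comap, IsLocalRing.mem_maximalIdeal, mem_nonunits_iff, ← not_iff_not, not_not]
  exact h1.symm

/-- `P` alone generates the ideal of `K` at `x`. -/
def Gen (K P : Ideal A) (x : X) : Prop := ∃ p ∈ P, Ideal.span {gS b x p} = K.map (gS b x)

lemma gen_of_unit {K P : Ideal A} (hPK : P ≤ K) {x : X} {p : A} (hp : p ∈ P) (hu : IsUnit (gS b x p)) :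
    Gen b K P x := by
  refine ⟨p, hp, ?_⟩
  rw [Ideal.span_singleton_eq_top.mpr hu, Ideal.eq_top_of_isUnit_mem _ (Ideal.mem_map_of_mem _ (hPK hp)) hu]

variable (K : Ideal A)

/-- The ideal sheaf of `K`. -/
noncomputable def centre : (Spec (CommRingCat.of A)).IdealSheafData :=
  Scheme.IdealSheafData.ofIdealTop (K.map (Scheme.ΓSpecIso (CommRingCat.of A)).inv.hom)

lemma centre_ideal_top :
    (centre K).ideal ⟨⊤, isAffineOpen_top _⟩ = K.map (Scheme.ΓSpecIso (CommRingCat.of A)).inv.hom := by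
  simp [centre]

lemma centre_support : ((centre K).support : Set (Spec (CommRingCat.of A))) = PrimeSpectrum.zeroLocus (K : Set A) := by
  rw [centre, Scheme.IdealSheafData.coe_support_ofIdealTop, Spec_zeroLocus, ← Ideal.coe_comap,
    Ideal.comap_map_of_bijective]
  exact ConcreteCategory.bijective_of_isIso _

variable {K}

/-- The ring map to the sections over an open. -/
noncomputable def gA (W : X.Opens) : A →+* Γ(X, W) :=
  ((Scheme.ΓSpecIso (CommRingCat.of A)).inv ≫ b.appLE ⊤ W le_top).hom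

lemma germ_gA {W : X.Opens} {x : X} (hx : x ∈ W) (a : A) :
    X.presheaf.germ W x hx (gA b W a) = gS b x a := by
  simp only [gA, gS, CommRingCat.hom_comp, RingHom.comp_apply, Scheme.Hom.appLE, Scheme.Hom.appTop]
  exact TopCat.Presheaf.germ_res_apply _ _ _ _ _

lemma exists_equation (hb : BlowUp.IsEffCartierIdeal ((centre K).comap b)) (x : X) :
    ∃ (W : X.affineOpens) (t : Γ(X, W.1)), x ∈ W.1 ∧ t ∈ nonZeroDivisors Γ(X, W.1) ∧
      K.map (gA b W.1) = Ideal.span {t} := by
  obtain ⟨W, hxW, t, ht, hK⟩ := hb x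
  refine ⟨W, t, hxW, ht, ?_⟩
  rw [EffCartier.comap_ideal _ b ⟨⊤, isAffineOpen_top _⟩ W le_top, centre_ideal_top, Ideal.map_map] at hK
  exact hK

lemma exists_equation_stalk (hb : BlowUp.IsEffCartierIdeal ((centre K).comap b)) (x : X) :
    ∃ t : X.presheaf.stalk x, t ∈ nonZeroDivisors (X.presheaf.stalk x) ∧ K.map (gS b x) = Ideal.span {t} := by
  obtain ⟨W, t, hxW, ht, hK⟩ := exists_equation b hb x
  letI : Algebra Γ(X, W.1) (X.presheaf.stalk x) := (X.presheaf.germ W.1 x hxW).hom.toAlgebra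
  haveI := W.2.isLocalization_stalk ⟨x, hxW⟩
  refine ⟨algebraMap Γ(X, W.1) (X.presheaf.stalk x) t,
    IsLocalization.map_nonZeroDivisors_le (W.2.primeIdealOf ⟨x, hxW⟩).asIdeal.primeCompl _ ⟨t, ht, rfl⟩, ?_⟩
  rw [← Set.image_singleton, ← Ideal.map_span, ← hK, Ideal.map_map]
  exact congrArg (fun f => Ideal.map f K) (RingHom.ext fun a => (germ_gA b hxW a).symm)

variable {P Q : Ideal A}

lemma isOpen_gen (hb : BlowUp.IsEffCartierIdeal ((centre K).comap b)) (hPK : P ≤ K) :
    IsOpen {x | Gen b K P x} := by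
  refine isOpen_iff_forall_mem_open.mpr fun x ⟨p, hp, hgen⟩ => ?_
  obtain ⟨W, t, hxW, ht, hK⟩ := exists_equation b hb x
  obtain ⟨a, ha⟩ := Ideal.mem_span_singleton'.mp (hK.le (Ideal.mem_map_of_mem (gA b W.1) (hPK hp)))
  have hstalk : ∀ y (hy : y ∈ W.1), K.map (gS b y) = Ideal.span {X.presheaf.germ W.1 y hy t} := fun y hy => by
    have h := congrArg (Ideal.map (X.presheaf.germ W.1 y hy).hom) hK
    rw [Ideal.map_map, Ideal.map_span, Set.image_singleton] at h
    rw [← h]
    exact congrArg (fun f => Ideal.map f K) (RingHom.ext fun c => (germ_gA b hy c).symm)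
  refine ⟨X.basicOpen a, fun y hy => ⟨p, hp, ?_⟩, (X.basicOpen a).2, ?_⟩
  · have hyW := X.basicOpen_le a hy
    rw [hstalk y hyW, ← germ_gA b hyW, ← ha, map_mul,
      Ideal.span_singleton_mul_left_unit ((Scheme.mem_basicOpen X a y hyW).mp hy)]
  · refine (Scheme.mem_basicOpen X a x hxW).mpr ?_
    rw [hstalk x hxW, ← germ_gA b hxW, ← ha, map_mul] at hgen
    letI : Algebra Γ(X, W.1) (X.presheaf.stalk x) := (X.presheaf.germ W.1 x hxW).hom.toAlgebra
    haveI := W.2.isLocalization_stalk ⟨x, hxW⟩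
    have hreg : algebraMap Γ(X, W.1) (X.presheaf.stalk x) t ∈ nonZeroDivisors (X.presheaf.stalk x) :=
      IsLocalization.map_nonZeroDivisors_le (W.2.primeIdealOf ⟨x, hxW⟩).asIdeal.primeCompl _ ⟨t, ht, rfl⟩
    obtain ⟨c, hc⟩ := Ideal.mem_span_singleton'.mp (hgen.ge (Ideal.mem_span_singleton_self _))
    refine .of_mul_eq_one_right c ((mul_cancel_right_mem_nonZeroDivisors hreg).mp ?_)
    rw [one_mul, mul_assoc]; exact hc

lemma gen_or_gen (hb : BlowUp.IsEffCartierIdeal ((centre K).comap b)) (hK : K = P ⊔ Q) (x : X) :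
    Gen b K P x ∨ Gen b K Q x := by
  obtain ⟨t, ht, hKt⟩ := exists_equation_stalk b hb x
  by_contra h
  push Not at h
  have key : ∀ P : Ideal A, P ≤ K → ¬ Gen b K P x →
      P.map (gS b x) ≤ maximalIdeal (X.presheaf.stalk x) * Ideal.span {t} := by
    refine fun P hPK hP => Ideal.map_le_iff_le_comap.mpr fun p hp => ?_
    obtain ⟨a, ha⟩ := Ideal.mem_span_singleton'.mp (hKt.le (Ideal.mem_map_of_mem (gS b x) (hPK hp)))
    rw [Ideal.mem_comap, ← ha]
    refine Ideal.mul_mem_mul ?_ (Ideal.mem_span_singleton_self t)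
    by_contra hu
    rw [IsLocalRing.notMem_maximalIdeal] at hu
    refine hP ⟨p, hp, ?_⟩
    rw [← ha, hKt, Ideal.span_singleton_mul_left_unit hu]
  have h' : Ideal.span {t} ≤ maximalIdeal (X.presheaf.stalk x) * Ideal.span {t} := by
    conv_lhs => rw [← hKt, hK, Ideal.map_sup]
    exact sup_le (key P (hK ▸ le_sup_left) h.1) (key Q (hK ▸ le_sup_right) h.2)
  obtain ⟨a, ha, hat⟩ := Ideal.mem_mul_span_singleton.mp (h' (Ideal.mem_span_singleton_self t))
  have : a = 1 := (mul_cancel_right_mem_nonZeroDivisors ht).mp (by rw [hat, one_mul])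
  exact (IsLocalRing.maximalIdeal.isMaximal _).ne_top ((Ideal.eq_top_iff_one _).mpr (this ▸ ha))

lemma not_gen_and_gen (hb : BlowUp.IsEffCartierIdeal ((centre K).comap b)) {I : Ideal A}
    (hPQ : P * Q ≤ I * K ^ 2) (x : X) (hx : I.map (gS b x) ≤ maximalIdeal _) :
    ¬ (Gen b K P x ∧ Gen b K Q x) := by
  rintro ⟨⟨p, hp, h1⟩, q, hq, h2⟩
  obtain ⟨t, ht, hKt⟩ := exists_equation_stalk b hb x
  have h3 : Ideal.span {gS b x (p * q)} = Ideal.span {t ^ 2} := by
    rw [map_mul, ← Ideal.span_singleton_mul_span_singleton, h1, h2, hKt,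
      Ideal.span_singleton_mul_span_singleton, sq]
  have h4 : t ^ 2 ∈ maximalIdeal (X.presheaf.stalk x) * Ideal.span {t ^ 2} := by
    have h := Ideal.mem_map_of_mem (gS b x) (hPQ (Ideal.mul_mem_mul hp hq))
    rw [Ideal.map_mul, Ideal.map_pow, hKt, Ideal.span_singleton_pow] at h
    have h' := Ideal.mul_mono hx le_rfl h
    rw [← Ideal.span_singleton_le_iff_mem, h3, Ideal.span_singleton_le_iff_mem] at h'
    exact h'
  obtain ⟨a, ha, hat⟩ := Ideal.mem_mul_span_singleton.mp h4
  have : a = 1 := (mul_cancel_right_mem_nonZeroDivisors (pow_mem ht 2)).mp (by rw [hat, one_mul])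
  exact (IsLocalRing.maximalIdeal.isMaximal _).ne_top ((Ideal.eq_top_iff_one _).mpr (this ▸ ha))

end Groth.Agent.GabberRig6
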