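import Groth.Agent.Lib.Gabber24.Topo
import Groth.Agent.S0153
import Mathlib

/-! # The cylinder of a continuous map of spectral spaces -/

set_option autoImplicit false
universe u v

open CategoryTheory TopologicalSpace Opposite

namespace Groth.Agent.GabberRig6

variable {X Z : Type u} [TopologicalSpace X] [TopologicalSpace Z]

/-- The cylinder of `g`: `Z` closed, `X` open, and `X ⤳ z` whenever `X ⤳ g z`. -/
@[nolint unusedArguments]
def Cyl (_g : C(Z, X)) : Type u := Z ⊕ X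

namespace Cyl

variable {g : C(Z, X)}

def inl (z : Z) : Cyl g := Sum.inl z
def inr (x : X) : Cyl g := Sum.inr x

/-- The retraction. -/
def r : Cyl g → X := fun m => Sum.elim g id m

instance : TopologicalSpace (Cyl g) where
  IsOpen S := IsOpen (inl ⁻¹' S) ∧ IsOpen (inr ⁻¹' S) ∧ inl ⁻¹' S ⊆ g ⁻¹' (inr ⁻¹' S)
  isOpen_univ := ⟨isOpen_univ, isOpen_univ, fun _ _ => trivial⟩
  isOpen_inter S T hS hT := ⟨hS.1.inter hT.1, hS.2.1.inter hT.2.1, fun _ h => ⟨hS.2.2 h.1, hT.2.2 h.2⟩⟩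
  isOpen_sUnion s hs := by
    refine ⟨?_, ?_, ?_⟩
    · rw [Set.preimage_sUnion]; exact isOpen_biUnion fun t ht => (hs t ht).1
    · rw [Set.preimage_sUnion]; exact isOpen_biUnion fun t ht => (hs t ht).2.1
    · rintro z ⟨t, ht, hz⟩
      exact ⟨t, ht, (hs t ht).2.2 hz⟩

lemma isOpen_iff {S : Set (Cyl g)} :
    IsOpen S ↔ IsOpen (inl ⁻¹' S) ∧ IsOpen (inr ⁻¹' S) ∧ inl ⁻¹' S ⊆ g ⁻¹' (inr ⁻¹' S) := Iff.rfl

lemma continuous_inl : Continuous (inl : Z → Cyl g) := continuous_def.mpr fun _ h => h.1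
lemma continuous_inr : Continuous (inr : X → Cyl g) := continuous_def.mpr fun _ h => h.2.1
lemma continuous_r : Continuous (r : Cyl g → X) :=
  continuous_def.mpr fun _ h => ⟨h.preimage g.continuous, h, fun _ hz => hz⟩

/-- An open of `Z` under an open of `X`. -/
def op2 (O : Set X) (Q : Set Z) : Set (Cyl g) := inr '' O ∪ inl '' Q

@[simp] lemma inl_mem_op2 {O : Set X} {Q : Set Z} {z : Z} : (inl z : Cyl g) ∈ op2 O Q ↔ z ∈ Q :=
  ⟨fun h => h.elim (fun ⟨_, _, e⟩ => nomatch e) (fun ⟨_, hw, e⟩ => Sum.inl_injective e ▸ hw),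
    fun h => Or.inr ⟨z, h, rfl⟩⟩

@[simp] lemma inr_mem_op2 {O : Set X} {Q : Set Z} {x : X} : (inr x : Cyl g) ∈ op2 O Q ↔ x ∈ O :=
  ⟨fun h => h.elim (fun ⟨_, hw, e⟩ => Sum.inr_injective e ▸ hw) (fun ⟨_, _, e⟩ => nomatch e),
    fun h => Or.inl ⟨x, h, rfl⟩⟩

lemma isOpen_op2 {O : Set X} {Q : Set Z} (hO : IsOpen O) (hQ : IsOpen Q) (h : Q ⊆ g ⁻¹' O) :
    IsOpen (op2 O Q : Set (Cyl g)) := by
  rw [isOpen_iff]
  rw [show inl ⁻¹' (op2 O Q : Set (Cyl g)) = Q from Set.ext fun z => inl_mem_op2,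
    show inr ⁻¹' (op2 O Q : Set (Cyl g)) = O from Set.ext fun x => inr_mem_op2]
  exact ⟨hQ, hO, h⟩

/-- The copy of `Z`. -/
def Zset : Set (Cyl g) := Set.range inl

lemma mem_Zset_inl (z : Z) : (inl z : Cyl g) ∈ Zset := ⟨z, rfl⟩
lemma inr_notMem_Zset (x : X) : (inr x : Cyl g) ∉ Zset := fun ⟨_, h⟩ => nomatch h

lemma isClosed_Zset : IsClosed (Zset : Set (Cyl g)) := by
  rw [← isOpen_compl_iff]
  have : (Zset : Set (Cyl g))ᶜ = op2 Set.univ ∅ := by
    ext m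
    rcases m with z | x
    · exact iff_of_false (fun h => h (mem_Zset_inl z)) (fun h => inl_mem_op2.mp h)
    · exact iff_of_true (inr_notMem_Zset x) (Or.inl ⟨x, trivial, rfl⟩)
  rw [this]
  exact isOpen_op2 isOpen_univ isOpen_empty (Set.empty_subset _)

lemma specializes_inr_inl {x : X} {z : Z} : (inr x : Cyl g) ⤳ inl z ↔ x ⤳ g z := by
  constructor
  · intro h
    exact h.map continuous_r
  · intro h
    rw [specializes_iff_forall_open]
    intro S hS hz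
    exact h.mem_open hS.2.1 (hS.2.2 hz)

lemma closure_inr_inter (x : X) :
    (Zset : Set (Cyl g)) ∩ closure {inr x} = inl '' (g ⁻¹' closure {x}) := by
  ext m
  constructor
  · rintro ⟨⟨z, rfl⟩, h⟩
    exact ⟨z, specializes_iff_mem_closure.mp (specializes_inr_inl.mp (specializes_iff_mem_closure.mpr h)), rfl⟩
  · rintro ⟨z, hz, rfl⟩
    exact ⟨mem_Zset_inl z, specializes_iff_mem_closure.mp (specializes_inr_inl.mpr (specializes_iff_mem_closure.mpr hz))⟩

instance [CompactSpace X] [CompactSpace Z] : CompactSpace (Cyl g) := by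
  refine ⟨?_⟩
  have : (Set.univ : Set (Cyl g)) = Set.range inl ∪ Set.range inr := Set.ext fun m => by
    rcases m with z | x
    · exact iff_of_true trivial (Or.inl ⟨z, rfl⟩)
    · exact iff_of_true trivial (Or.inr ⟨x, rfl⟩)
  rw [this]
  exact (isCompact_range continuous_inl).union (isCompact_range continuous_inr)

instance [T0Space X] [T0Space Z] : T0Space (Cyl g) := by
  refine t0Space_iff_inseparable _ |>.mpr fun a b h => ?_
  have key : ∀ (x : X) (z : Z), ¬ (inl z : Cyl g) ⤳ inr x := fun x z h =>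
    inr_notMem_Zset x (h.mem_closed isClosed_Zset (mem_Zset_inl z))
  rcases a with z | x <;> rcases b with z' | x'
  · refine congrArg Sum.inl (Inseparable.eq ?_)
    refine inseparable_iff_forall_isOpen.mpr fun s hs => ?_
    have hS : IsOpen (op2 Set.univ s : Set (Cyl g)) := isOpen_op2 isOpen_univ hs fun _ _ => trivial
    exact (inl_mem_op2).symm.trans ((inseparable_iff_forall_isOpen.mp h _ hS).trans inl_mem_op2)
  · exact absurd h.specializes (key x' z)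
  · exact absurd h.symm.specializes (key x z')
  · exact congrArg Sum.inr ((h.map continuous_r).eq)

lemma isCompact_inr_preimage [PrespectralSpace X] {S : Set (Cyl g)} (hS : IsOpen S) (hc : IsCompact S) :
    IsCompact (inr ⁻¹' S : Set X) := by
  refine isCompact_of_finite_subcover fun {ι} O hO hcov => ?_
  let P : ι → Set (Cyl g) := fun i => op2 (O i) (g ⁻¹' O i)
  have hP : S ⊆ ⋃ i, P i := by
    intro m hm
    rcases m with z | x
    · obtain ⟨i, hi⟩ := Set.mem_iUnion.mp (hcov (hS.2.2 hm))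
      exact Set.mem_iUnion.mpr ⟨i, inl_mem_op2.mpr hi⟩
    · obtain ⟨i, hi⟩ := Set.mem_iUnion.mp (hcov hm)
      exact Set.mem_iUnion.mpr ⟨i, inr_mem_op2.mpr hi⟩
  obtain ⟨t, ht⟩ := hc.elim_finite_subcover P
    (fun i => isOpen_op2 (hO i) ((hO i).preimage g.continuous) le_rfl) hP
  refine ⟨t, fun x hx => ?_⟩
  obtain ⟨i, hi, hxi⟩ := Set.mem_iUnion₂.mp (ht hx)
  exact Set.mem_iUnion₂.mpr ⟨i, hi, inr_mem_op2.mp hxi⟩

lemma isCompact_inl_preimage {S : Set (Cyl g)} (hc : IsCompact S) : IsCompact (inl ⁻¹' S : Set Z) := by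
  refine isCompact_of_finite_subcover fun {ι} O hO hcov => ?_
  let P : Option ι → Set (Cyl g) := fun i => i.elim (Zsetᶜ) fun i => op2 Set.univ (O i)
  have hP : S ⊆ ⋃ i, P i := by
    intro m hm
    rcases m with z | x
    · obtain ⟨i, hi⟩ := Set.mem_iUnion.mp (hcov hm)
      exact Set.mem_iUnion.mpr ⟨some i, inl_mem_op2.mpr hi⟩
    · exact Set.mem_iUnion.mpr ⟨none, inr_notMem_Zset x⟩
  obtain ⟨t, ht⟩ := hc.elim_finite_subcover P (fun i => by
    cases i with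
    | none => exact isClosed_Zset.isOpen_compl
    | some i => exact isOpen_op2 isOpen_univ (hO i) fun _ _ => trivial) hP
  refine ⟨t.eraseNone, fun z hz => ?_⟩
  obtain ⟨i, hi, hzi⟩ := Set.mem_iUnion₂.mp (ht hz)
  cases i with
  | none => exact absurd (mem_Zset_inl z) hzi
  | some i => exact Set.mem_iUnion₂.mpr ⟨i, Finset.mem_eraseNone.mpr hi, inl_mem_op2.mp hzi⟩

instance [PrespectralSpace X] [QuasiSeparatedSpace X] [QuasiSeparatedSpace Z] : QuasiSeparatedSpace (Cyl g) := by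
  refine ⟨fun S T hS hSc hT hTc => ?_⟩
  have : S ∩ T = inl '' (inl ⁻¹' S ∩ inl ⁻¹' T) ∪ inr '' (inr ⁻¹' S ∩ inr ⁻¹' T) := Set.ext fun m => by
    rcases m with z | x
    · exact ⟨fun h => Or.inl ⟨z, h, rfl⟩, by rintro (⟨w, h, e⟩ | ⟨w, h, e⟩) <;> exact e ▸ h⟩
    · exact ⟨fun h => Or.inr ⟨x, h, rfl⟩, by rintro (⟨w, h, e⟩ | ⟨w, h, e⟩) <;> exact e ▸ h⟩
  rw [this]
  exact ((QuasiSeparatedSpace.inter_isCompact _ _ hS.1 (isCompact_inl_preimage hSc) hT.1
    (isCompact_inl_preimage hTc)).image continuous_inl).union ((QuasiSeparatedSpace.inter_isCompact _ _ hS.2.1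
    (isCompact_inr_preimage hS hSc) hT.2.1 (isCompact_inr_preimage hT hTc)).image continuous_inr)

instance [PrespectralSpace X] [PrespectralSpace Z] : PrespectralSpace (Cyl g) := by
  refine ⟨isTopologicalBasis_of_isOpen_of_nhds (fun S h => h.1) fun m S hm hS => ?_⟩
  rcases m with z | x
  · obtain ⟨O, ⟨hO, hOc⟩, hzO, hOS⟩ := PrespectralSpace.isTopologicalBasis.exists_subset_of_mem_open
      (a := g z) (hS.2.2 hm) hS.2.1
    obtain ⟨Q, ⟨hQ, hQc⟩, hzQ, hQS⟩ := PrespectralSpace.isTopologicalBasis.exists_subset_of_mem_open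
      (a := z) (u := inl ⁻¹' S ∩ g ⁻¹' O) ⟨hm, hzO⟩ (hS.1.inter (hO.preimage g.continuous))
    refine ⟨op2 O Q, ⟨isOpen_op2 hO hQ fun w hw => (hQS hw).2,
      (hOc.image continuous_inr).union (hQc.image continuous_inl)⟩, inl_mem_op2.mpr hzQ, ?_⟩
    rintro _ (⟨w, hw, rfl⟩ | ⟨w, hw, rfl⟩)
    · exact hOS hw
    · exact (hQS hw).1
  · obtain ⟨O, ⟨hO, hOc⟩, hxO, hOS⟩ := PrespectralSpace.isTopologicalBasis.exists_subset_of_mem_open
      (a := x) (u := inr ⁻¹' S) hm hS.2.1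
    refine ⟨op2 O ∅, ⟨isOpen_op2 hO isOpen_empty (Set.empty_subset _),
      (hOc.image continuous_inr).union (isCompact_empty.image continuous_inl)⟩, inr_mem_op2.mpr hxO, ?_⟩
    rintro _ (⟨w, hw, rfl⟩ | ⟨w, hw, rfl⟩)
    · exact hOS hw
    · exact absurd hw (Set.notMem_empty w)

instance [QuasiSober X] [QuasiSober Z] : QuasiSober (Cyl g) := by
  refine ⟨fun {S} hS hSc => ?_⟩
  by_cases hx : (inr ⁻¹' S : Set X).Nonempty
  · have hirr : IsIrreducible (inr ⁻¹' S : Set X) := by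
      refine ⟨hx, fun U V hU hV hSU hSV => ?_⟩
      obtain ⟨a, ha, haU⟩ := hSU
      obtain ⟨b, hb, hbV⟩ := hSV
      obtain ⟨m, hmS, hmU, hmV⟩ := hS.2 (op2 U ∅) (op2 V ∅)
        (isOpen_op2 hU isOpen_empty (Set.empty_subset _)) (isOpen_op2 hV isOpen_empty (Set.empty_subset _))
        ⟨inr a, ha, inr_mem_op2.mpr haU⟩ ⟨inr b, hb, inr_mem_op2.mpr hbV⟩
      rcases m with z | x
      · exact absurd (inl_mem_op2.mp hmU) (Set.notMem_empty z)
      · exact ⟨x, hmS, inr_mem_op2.mp hmU, inr_mem_op2.mp hmV⟩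
    obtain ⟨ξ, hξ⟩ := QuasiSober.sober hirr (hSc.preimage continuous_inr)
    refine ⟨inr ξ, Set.Subset.antisymm ?_ fun m hm => ?_⟩
    · exact closure_minimal (Set.singleton_subset_iff.mpr (hξ.mem : ξ ∈ inr ⁻¹' S)) hSc
    · rw [mem_closure_iff]
      intro O hO hmO
      have hOX : (inr ⁻¹' S ∩ inr ⁻¹' O : Set X).Nonempty := by
        obtain ⟨a, ha⟩ := hx
        obtain ⟨m', hm'S, hm'O, hm'X⟩ := hS.2 O Zsetᶜ hO isClosed_Zset.isOpen_compl ⟨m, hm, hmO⟩
          ⟨inr a, ha, inr_notMem_Zset a⟩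
        rcases m' with z | x
        · exact absurd (mem_Zset_inl z) hm'X
        · exact ⟨x, hm'S, hm'O⟩
      obtain ⟨w, hw1, hw2⟩ := hOX
      exact ⟨inr ξ, (hξ.specializes hw1).mem_open hO.2.1 hw2, rfl⟩
  · have hsub : S = inl '' (inl ⁻¹' S) := Set.ext fun m => by
      rcases m with z | x
      · exact ⟨fun h => ⟨z, h, rfl⟩, fun ⟨w, h, e⟩ => e ▸ h⟩
      · exact iff_of_false (fun h => hx ⟨x, h⟩) fun ⟨w, _, e⟩ => nomatch e
    have hirr : IsIrreducible (inl ⁻¹' S : Set Z) := by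
      refine ⟨?_, fun U V hU hV hSU hSV => ?_⟩
      · obtain ⟨m, hm⟩ := hS.1
        rw [hsub] at hm
        exact ⟨_, hm.choose_spec.1⟩
      · obtain ⟨a, ha, haU⟩ := hSU
        obtain ⟨b, hb, hbV⟩ := hSV
        obtain ⟨m, hmS, hmU, hmV⟩ := hS.2 (op2 Set.univ U) (op2 Set.univ V)
          (isOpen_op2 isOpen_univ hU fun _ _ => trivial) (isOpen_op2 isOpen_univ hV fun _ _ => trivial)
          ⟨inl a, ha, inl_mem_op2.mpr haU⟩ ⟨inl b, hb, inl_mem_op2.mpr hbV⟩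
        rcases m with z | x
        · exact ⟨z, hmS, inl_mem_op2.mp hmU, inl_mem_op2.mp hmV⟩
        · exact absurd ⟨x, hmS⟩ hx
    obtain ⟨ξ, hξ⟩ := QuasiSober.sober hirr (hSc.preimage continuous_inl)
    refine ⟨inl ξ, Set.Subset.antisymm ?_ fun m hm => ?_⟩
    · exact closure_minimal (Set.singleton_subset_iff.mpr (hξ.mem : ξ ∈ inl ⁻¹' S)) hSc
    · rw [hsub] at hm
      obtain ⟨w, hw, rfl⟩ := hm
      exact specializes_iff_mem_closure.mp ((hξ.specializes hw).map continuous_inl)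

end Cyl

open Cyl in
/-- Compatible local classes near `Z` extend to compatible local classes on `X`. -/
theorem exists_choice [SpectralSpace X] [SpectralSpace Z] (g : C(Z, X))
    (hconn : ∀ x : X, IsConnected (g ⁻¹' closure {x}))
    {κ : Type u} (A : κ → Set X) (hA : ∀ k, IsOpen (A k)) (R : κ → κ → Set X) (hR : ∀ k l, IsOpen (R k l))
    (hRA : ∀ k l, R k l ⊆ A l) (hrefl : ∀ k, A k ⊆ R k k) (hsymm : ∀ k l, R k l ⊆ R l k)
    (htrans : ∀ k l m, R k l ∩ R l m ⊆ R k m)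
    (O : κ → Set Z) (hO : ∀ k, IsOpen (O k)) (hOA : ∀ k, O k ⊆ g ⁻¹' A k) (hcov : ∀ z, ∃ k, z ∈ O k)
    (hcomp : ∀ k l, O k ∩ O l ⊆ g ⁻¹' R k l) :
    ∃ W : κ → Set X, (∀ k, IsOpen (W k)) ∧ (∀ k, W k ⊆ A k) ∧ (∀ x, ∃ k, x ∈ W k) ∧
      (∀ k l, W k ∩ W l ⊆ R k l) ∧ ∀ k l z, z ∈ O l → g z ∈ W k → g z ∈ R k l := by
  haveI : SpectralSpace (Cyl g) := {}
  let M : TopCat.{u} := TopCat.of (Cyl g)
  have hconn' : ∀ m : M, IsConnected ((Zset : Set (Cyl g)) ∩ closure {m}) := by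
    intro m
    rcases m with z | x
    · show IsConnected ((Zset : Set (Cyl g)) ∩ closure {inl z})
      rw [Set.inter_eq_right.mpr (closure_minimal (Set.singleton_subset_iff.mpr (mem_Zset_inl z)) isClosed_Zset)]
      exact isConnected_singleton.closure
    · show IsConnected ((Zset : Set (Cyl g)) ∩ closure {inr x})
      rw [closure_inr_inter]
      exact (hconn x).image _ continuous_inl.continuousOn
  have hsec : Gabber24.SecEq M Zset := Groth.Agent.S0153.result M Zset isClosed_Zset hconn'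
  let cls : κ → X → Set κ := fun k x => {l | x ∈ R k l}
  have hcls : ∀ k l x, x ∈ A l → cls k x = cls l x → x ∈ R k l := fun k l x hx h => h.ge (hrefl l hx)
  have hcls' : ∀ k l x, x ∈ R k l → cls k x = cls l x := fun k l x h => Set.ext fun m =>
    ⟨fun hm => htrans l k m ⟨hsymm k l h, hm⟩, fun hm => htrans k l m ⟨h, hm⟩⟩
  let rM : M → X := r (g := g)
  let P : TopCat.PrelocalPredicate (fun _ : M => Set κ) :=
    { pred := fun {U} (f : U → Set κ) => ∃ k, ∀ m : U, rM m.1 ∈ A k ∧ f m = cls k (rM m.1)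
      res := fun i f h => h.imp fun k hk m => hk ⟨m.1, i.le m.2⟩ }
  let F := TopCat.subsheafToTypes P.sheafify
  let U : κ → Opens M := fun k => ⟨op2 (A k) (O k), isOpen_op2 (hA k) (hO k) (hOA k)⟩
  have hUA : ∀ k (m : M), m ∈ U k → rM m ∈ A k := by
    rintro k _ (⟨x, hx, rfl⟩ | ⟨z, hz, rfl⟩)
    · exact hx
    · exact hOA k hz
  let s : ∀ k, F.presheaf.obj (op (U k)) := fun k => ⟨fun m => cls k (rM m.1), fun m =>
    ⟨U k, m.2, 𝟙 _, k, fun m' => ⟨hUA k _ m'.2, rfl⟩⟩⟩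
  obtain ⟨t, ht⟩ := hsec.exists_section F U
    (fun m hm => by obtain ⟨z, rfl⟩ := hm; obtain ⟨k, hk⟩ := hcov z; exact ⟨k, inl_mem_op2.mpr hk⟩) s
    (fun m hm k l hk hl => by
      obtain ⟨z, rfl⟩ := hm
      let V : Opens M := U k ⊓ U l ⊓ ⟨rM ⁻¹' R k l, (hR k l).preimage continuous_r⟩
      refine F.presheaf.germ_ext V ⟨⟨hk, hl⟩, hcomp k l ⟨inl_mem_op2.mp hk, inl_mem_op2.mp hl⟩⟩
        (homOfLE (inf_le_left.trans inf_le_left)) (homOfLE (inf_le_left.trans inf_le_right))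
        (Subtype.ext (funext fun m => hcls' k l _ m.2.2)))
  let W : κ → Set X := fun k => interior {x | x ∈ A k ∧ t.1 ⟨(inr x : Cyl g), trivial⟩ = cls k x}
  have hWmem : ∀ k x, x ∈ W k → x ∈ A k ∧ t.1 ⟨(inr x : Cyl g), trivial⟩ = cls k x := fun k x h => by
    have h' : x ∈ interior {x | x ∈ A k ∧ t.1 ⟨(inr x : Cyl g), trivial⟩ = cls k x} := h
    have h'' : x ∈ {x | x ∈ A k ∧ t.1 ⟨(inr x : Cyl g), trivial⟩ = cls k x} := interior_subset h'
    exact h''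
  have hz : ∀ k z, g z ∈ W k → t.1 ⟨(inl z : Cyl g), trivial⟩ = cls k (g z) := by
    intro k z hgz
    obtain ⟨V, hzV, i, l, hl⟩ := t.2 ⟨(inl z : Cyl g), trivial⟩
    have h1 : t.1 ⟨(inl z : Cyl g), trivial⟩ = cls l (g z) := (hl ⟨(inl z : Cyl g), hzV⟩).2
    have hgV : (inr (g z) : Cyl g) ∈ V := V.2.2.2 hzV
    have h2 : t.1 ⟨(inr (g z) : Cyl g), trivial⟩ = cls l (g z) := (hl ⟨(inr (g z) : Cyl g), hgV⟩).2
    rw [h1, ← h2]; exact (hWmem k _ hgz).2
  refine ⟨W, fun k => isOpen_interior, fun k x hx => (hWmem k x hx).1, fun x => ?_, fun k l x hx => ?_, ?_⟩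
  · obtain ⟨V, hxV, i, k, hk⟩ := t.2 ⟨(inr x : Cyl g), trivial⟩
    exact ⟨k, mem_interior.mpr ⟨inr ⁻¹' (V : Set (Cyl g)), fun y hy => ⟨(hk ⟨inr y, hy⟩).1, (hk ⟨inr y, hy⟩).2⟩,
      V.2.preimage Cyl.continuous_inr, hxV⟩⟩
  · exact hcls k l x (hWmem l x hx.2).1 ((hWmem k x hx.1).2.symm.trans (hWmem l x hx.2).2)
  · intro k l z hzl hgz
    obtain ⟨V, hzV, i1, i2, hV⟩ := F.presheaf.germ_eq (U := ⊤) (inl z : Cyl g) trivial (inl_mem_op2.mpr hzl) t (s l)
      (ht (inl z : Cyl g) (mem_Zset_inl z) l (inl_mem_op2.mpr hzl))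
    have h : t.1 ⟨(inl z : Cyl g), trivial⟩ = cls l (g z) := congrFun (congrArg Subtype.val hV) ⟨(inl z : Cyl g), hzV⟩
    exact hcls k l _ (hOA l hzl) ((hz k z hgz).symm.trans h)

end Groth.Agent.GabberRig6
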