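import Groth.Agent.Lib.GabberRig6.Main
import Groth.Agent.Lib.GabberRig6.Cyl
import Groth.Agent.Lib.HensProper6.Couple
import Mathlib

/-! # Connectedness of preimages of irreducible closed subsets -/

set_option autoImplicit false
universe u
set_option backward.isDefEq.respectTransparency.types false
set_option linter.style.haveILetI false

open TopologicalSpace
open scoped TensorProduct

namespace Groth.Agent.GabberRig6

variable {B C : Type u} [CommRing B] [CommRing C] [Algebra B C] {I : Ideal B}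

/-- Preimages of irreducible closed subsets of the open are connected. -/
theorem isConnected_preimage (hA : HenselianRing B I) (h : Approx (A' := C) I) (hI : I.FG)
    {U : Set (PrimeSpectrum B)} (hU : IsOpen U) (hUc : IsCompact U) (hUI : ∀ x ∉ U, I ≤ x.asIdeal)
    (p : PrimeSpectrum B) (hp : p ∈ U) :
    IsConnected (PrimeSpectrum.comap (algebraMap B C) ⁻¹' U ∩
      PrimeSpectrum.comap (algebraMap B C) ⁻¹' PrimeSpectrum.zeroLocus (p.asIdeal : Set B)) := by
  let π := PrimeSpectrum.comap (algebraMap B C)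
  let Bp := B ⧸ p.asIdeal
  let J := p.asIdeal.map (algebraMap B C)
  let Cp := C ⧸ J
  letI : Algebra Bp Cp := (Ideal.quotientMap J (algebraMap B C) Ideal.le_comap_map).toAlgebra
  let q := PrimeSpectrum.comap (Ideal.Quotient.mk p.asIdeal)
  let qC := PrimeSpectrum.comap (Ideal.Quotient.mk J)
  have hsq : ∀ w, q (PrimeSpectrum.comap (algebraMap Bp Cp) w) = π (qC w) := fun w => by
    refine PrimeSpectrum.ext (Ideal.ext fun b => ?_)
    rfl
  have hA' : HenselianRing Bp (I.map (algebraMap B Bp)) := Hens.henselianRing_of_isIntegral hA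
  have hmap : ∀ m : ℕ, ((I.map (algebraMap B Bp)) ^ m).map (algebraMap Bp Cp) =
      ((I ^ m).map (algebraMap B C)).map (Ideal.Quotient.mk J) := fun m => by
    rw [← Ideal.map_pow, Ideal.map_map, Ideal.map_map]
    rfl
  have happ : Approx (A' := Cp) (I.map (algebraMap B Bp)) := by
    refine ⟨?_, fun m a => ?_, fun m a ha => ?_⟩
    · have h1 := hmap 1
      rw [pow_one, pow_one] at h1
      rw [h1]
      refine (Ideal.map_mono h.jac).trans ?_
      rw [Ideal.map_le_iff_le_comap]
      intro c hc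
      rw [Ideal.mem_comap, Ideal.mem_jacobson_bot]
      intro y
      obtain ⟨y, rfl⟩ := Ideal.Quotient.mk_surjective y
      rw [← map_mul, ← map_one (Ideal.Quotient.mk J), ← map_add]
      exact ((Ideal.mem_jacobson_bot.mp hc) y).map _
    · obtain ⟨c, rfl⟩ := Ideal.Quotient.mk_surjective a
      obtain ⟨b, hb⟩ := h.lift m c
      refine ⟨algebraMap B Bp b, ?_⟩
      rw [hmap]
      exact Ideal.mem_map_of_mem (Ideal.Quotient.mk J) hb
    · obtain ⟨b, rfl⟩ := Ideal.Quotient.mk_surjective a
      rw [hmap] at ha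
      have hb : algebraMap B C b ∈ (p.asIdeal ⊔ I ^ m).map (algebraMap B C) := by
        have ha' : algebraMap B C b ∈ (((I ^ m).map (algebraMap B C)).map (Ideal.Quotient.mk J)).comap
            (Ideal.Quotient.mk J) := ha
        rw [Ideal.comap_map_of_surjective _ Ideal.Quotient.mk_surjective, ← RingHom.ker_eq_comap_bot,
          Ideal.mk_ker, sup_comm] at ha'
        rwa [Ideal.map_sup]
      have hb' := Ideal.mem_map_of_mem (Ideal.Quotient.mk p.asIdeal) (h.comap_map_le m le_sup_right hb)
      rw [Ideal.map_sup, Ideal.map_quotient_self, bot_sup_eq, Ideal.map_pow] at hb'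
      exact hb'
  let Up : Set (PrimeSpectrum Bp) := q ⁻¹' U
  have hUp : IsOpen Up := hU.preimage (PrimeSpectrum.continuous_comap _)
  have hUpc : IsCompact Up := by
    have hce := PrimeSpectrum.isClosedEmbedding_comap_of_surjective Bp (Ideal.Quotient.mk p.asIdeal)
      Ideal.Quotient.mk_surjective
    refine hce.isEmbedding.isCompact_iff.mpr ?_
    rw [Set.image_preimage_eq_inter_range]
    exact hUc.inter_right hce.isClosed_range
  have hUpI : ∀ x ∉ Up, I.map (algebraMap B Bp) ≤ x.asIdeal := fun x hx =>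
    Ideal.map_le_iff_le_comap.mpr (hUI _ hx)
  let η : PrimeSpectrum Bp := ⟨⊥, Ideal.isPrime_bot⟩
  have hη : q η = p := PrimeSpectrum.ext (by
    show Ideal.comap _ ⊥ = _
    rw [← RingHom.ker_eq_comap_bot, Ideal.mk_ker])
  have hηU : η ∈ Up := by show q η ∈ U; rw [hη]; exact hp
  haveI := p.isPrime
  have himg : π ⁻¹' U ∩ π ⁻¹' PrimeSpectrum.zeroLocus (p.asIdeal : Set B) =
      qC '' (PrimeSpectrum.comap (algebraMap Bp Cp) ⁻¹' Up) := by
    ext z
    constructor
    · rintro ⟨hzU, hzp⟩
      have hz : z ∈ Set.range qC := by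
        show z ∈ Set.range (PrimeSpectrum.comap (Ideal.Quotient.mk J))
        rw [range_comap_of_surjective _ _ Ideal.Quotient.mk_surjective, Ideal.mk_ker]
        exact Ideal.map_le_iff_le_comap.mpr hzp
      obtain ⟨w, rfl⟩ := hz
      exact ⟨w, show q _ ∈ U by rw [hsq]; exact hzU, rfl⟩
    · rintro ⟨w, hw, rfl⟩
      refine ⟨show π (qC w) ∈ U by rw [← hsq]; exact hw, ?_⟩
      show p.asIdeal ≤ (π (qC w)).asIdeal
      rw [← hsq]
      intro b hb
      have h0 : Ideal.Quotient.mk p.asIdeal b ∈ (PrimeSpectrum.comap (algebraMap Bp Cp) w).asIdeal := by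
        rw [Ideal.Quotient.eq_zero_iff_mem.mpr hb]
        exact Ideal.zero_mem _
      exact h0
  rw [himg]
  refine IsConnected.image ⟨?_, ?_⟩ _ (PrimeSpectrum.continuous_comap _).continuousOn
  · by_contra hne
    rw [Set.not_nonempty_iff_eq_empty] at hne
    have := eq_empty_of_preimage (A' := Cp) hA'.jac happ (hI.map _) hUpI (W := Up)
      (fun x _ y hy _ => hy) hne
    exact Set.eq_empty_iff_forall_notMem.mp this η hηU
  · intro V V' hV hV' hsub ⟨a, ha, haV⟩ ⟨b, hb, hbV⟩
    by_contra hd
    obtain ⟨W, W', hW, hW', hdW, hWW, hVW⟩ := exists_open_split (A' := Cp) hA' happ (hI.map _) hUp hUpc hUpI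
      (V := V ∩ PrimeSpectrum.comap (algebraMap Bp Cp) ⁻¹' Up)
      (V' := V' ∩ PrimeSpectrum.comap (algebraMap Bp Cp) ⁻¹' Up)
      (hV.inter (hUp.preimage (PrimeSpectrum.continuous_comap _)))
      (hV'.inter (hUp.preimage (PrimeSpectrum.continuous_comap _)))
      (Set.disjoint_left.mpr fun x h1 h2 => hd ⟨x, h1.2, h1.1, h2.1⟩)
      (by rw [← Set.union_inter_distrib_right, Set.inter_eq_right]; exact hsub)
    have hspec : ∀ x : PrimeSpectrum Bp, η ⤳ x := fun x =>
      (PrimeSpectrum.le_iff_specializes _ _).mp bot_le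
    have haW : PrimeSpectrum.comap (algebraMap Bp Cp) a ∈ W := (Set.ext_iff.mp hVW a).mp ⟨haV, ha⟩
    have hbW : PrimeSpectrum.comap (algebraMap Bp Cp) b ∈ W' := by
      have hb' : PrimeSpectrum.comap (algebraMap Bp Cp) b ∈ W ∪ W' := hWW.ge hb
      refine hb'.resolve_left fun hbW => ?_
      exact hd ⟨b, hb, ((Set.ext_iff.mp hVW b).mpr hbW).1, hbV⟩
    exact Set.disjoint_left.mp hdW ((hspec _).mem_open hW haW) ((hspec _).mem_open hW' hbW)

end Groth.Agent.GabberRig6
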