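import Groth.Agent.Lib.GabberRig6.Pieces
import Mathlib

/-! # Global sections along a rigid square -/

set_option autoImplicit false
universe u

open CategoryTheory CategoryTheory.Limits AlgebraicGeometry Opposite

set_option backward.isDefEq.respectTransparency.types false
set_option linter.style.haveILetI false

namespace Groth.Agent.GabberRig6

open Groth.Agent.EtStalk hiding agree isOpen_agree mem_agree_iff_germ agree_symm agree_trans agree_self eq_of_agree mem_agree_map mem_agree_unit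
open Groth.Agent.SetsStage24 (val val_map val_congr' same isOpen_same mem_same_iff At exists_at at_res)
open Groth.Agent.Gabber24 (toTop prodFst prodSnd prod)
open Groth.Agent.EtDesc24 (agree isOpen_agree mem_agree_iff_germ eq_of_agree)

variable {X X' Z Z' : Scheme.{u}}

/-- The hypotheses on the square `Z' → X'` over `Z → X`. -/
structure RigidSquare (p : X' ⟶ X) (g : Z ⟶ X) (g' : Z' ⟶ X') (p' : Z' ⟶ Z) : Prop where
  integral : IsIntegralHom p
  surj : Surjective p
  w : p' ≫ g = g' ≫ p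
  lift : ∀ {S : Scheme.{u}} (a : S ⟶ X') (c : S ⟶ Z), a ≫ p = c ≫ g → ∃ l : S ⟶ Z', l ≫ g' = a ∧ l ≫ p' = c
  zl : ∀ (N : X'.Etale) (u : N.left), ∃ W : N.left.Opens, u ∈ W ∧ IsOpenImmersion (W.ι ≫ N.hom)
  conn : ∀ x : X', _root_.IsConnected (g' ⁻¹' closure {x})
  spectralX : SpectralSpace X'
  spectralZ : SpectralSpace Z'
  meets : ∀ C : Set X, IsClosed C → C.Nonempty → ∃ z : Z, g z ∈ C

variable {p : X' ⟶ X} {g : Z ⟶ X} {g' : Z' ⟶ X'} {p' : Z' ⟶ Z}

lemma at_congr_pt {F : EtDesc.Sh X} {σ : ((EtDesc.pullSh g).obj F).obj.obj (op (EtCoh.top Z))}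
    {Ω : Type u} [Field Ω] [IsSepClosed Ω] {ζ ζ' : Spec (CommRingCat.of Ω) ⟶ Z} (e : ζ = ζ') {N : X.Etale}
    {n : Spec (CommRingCat.of Ω) ⟶ N.left} {hn : n ≫ N.hom = ζ ≫ g} {s : F.obj.obj (op N)}
    (h : At g F σ ζ ζ (Category.comp_id _) n hn s) :
    At g F σ ζ' ζ' (Category.comp_id _) n (hn.trans (e ▸ rfl)) s := by
  subst e; exact h

lemma at_secPull (F : EtDesc.Sh X) (s : EtDesc.sect F (EtCoh.top X)) {Ω : Type u} [Field Ω] [IsSepClosed Ω]
    (ζ : Spec (CommRingCat.of Ω) ⟶ Z) :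
    At g F (EtDesc.secPull g F s) ζ ζ (Category.comp_id _) (ζ ≫ g) (Category.comp_id _) s := by
  refine at_res g F s (EtCore.bcTopIso g).inv (ζ ≫ g) (Category.comp_id _) ?_
  have h1 : (EtCore.bcTopIso g).inv.left ≫ ((EtCoh.bc g).obj (EtCoh.top X)).hom = 𝟙 Z :=
    MorphismProperty.Over.w (EtCore.bcTopIso g).inv
  have h2 : bcFst g (EtCoh.top X) = ((EtCoh.bc g).obj (EtCoh.top X)).hom ≫ g := by
    show pullback.fst (𝟙 X) g = pullback.snd (𝟙 X) g ≫ g
    simpa using pullback.condition (f := 𝟙 X) (g := g)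
  rw [h2]
  exact congrArg (ζ ≫ ·) ((Category.assoc _ _ _).symm.trans ((congrArg (· ≫ g) h1).trans (Category.id_comp g)))

theorem RigidSquare.injective (h : RigidSquare p g g' p') (F : EtDesc.Sh X) :
    Function.Injective (EtDesc.secPull g F) := by
  intro s t hst
  refine eq_of_agree F (U := EtCoh.top X) fun x => ?_
  by_contra hx
  obtain ⟨z, hz⟩ := h.meets ((agree F s t)ᶜ) (isOpen_agree F s t).isClosed_compl ⟨x, hx⟩
  refine hz ?_
  let ζ := geomPt Z z
  have h1 := at_secPull (g := g) F s ζ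
  have h2 := at_secPull (g := g) F t ζ
  rw [hst] at h1
  let φ : fib (ζ ≫ g) (EtCoh.top X) := Over.homMk (ζ ≫ g) (Category.comp_id _)
  have e : g z = fibPt φ := by
    show g z = (ζ ≫ g) default
    rw [Scheme.Hom.comp_apply, geomPt_default]
  rw [e]
  exact (mem_agree_iff_germ F φ s t).mpr (h1.val_eq h2)

variable {F : EtDesc.Sh X} {κ : Type u} (P : κ → Piece p F)

/-- A section on an etale scheme has the values of all pieces. -/
def Follows {N : X.Etale} (s : F.obj.obj (op N)) : Prop :=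
  ∀ (l : κ) (Ω : Type u) [Field Ω] [IsSepClosed Ω] (ξ : Spec (CommRingCat.of Ω) ⟶ X)
    (a : Spec (CommRingCat.of Ω) ⟶ (P l).opn) (b : Spec (CommRingCat.of Ω) ⟶ N.left)
    (ha : (a ≫ (P l).map) ≫ (P l).obj.hom = ξ) (hb : b ≫ N.hom = ξ),
    val F ξ (a ≫ (P l).map) ha (P l).sec = val F ξ b hb s

theorem exists_follows (h : ∀ k l, Agrees (P k) (P l)) [IsIntegralHom p] [Surjective p]
    (hcov : ∀ x, ∃ k, x ∈ (P k).opn) (x : X) :
    ∃ (N : X.Etale) (n : N.left) (s : F.obj.obj (op N)), N.hom n = x ∧ Follows P s := by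
  obtain ⟨x', hx'⟩ := (inferInstance : Surjective p).surj x
  obtain ⟨k, hk⟩ := hcov x'
  let N := (P k).obj
  let u : N.left := (P k).map ⟨x', hk⟩
  let Q : κ → Scheme.{u} := fun l => pullback ((P l).opn.ι ≫ p) N.hom
  let e : ∀ l, Q l ⟶ pullback p N.hom := fun l =>
    pullback.map _ _ _ _ (P l).opn.ι (𝟙 _) (𝟙 X) (by simp) (by simp)
  haveI : ∀ l, IsOpenImmersion (e l) := fun l => by simp only [e]; infer_instance
  have hse : ∀ l, e l ≫ pullback.snd p N.hom = pullback.snd ((P l).opn.ι ≫ p) N.hom := fun l => by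
    simp [e, pullback.lift_snd]
  have hfe : ∀ l, e l ≫ pullback.fst p N.hom = pullback.fst _ _ ≫ (P l).opn.ι := fun l => by
    simp [e, pullback.lift_fst]
  let S : ∀ l, Set (Q l) := fun l => same F (a := pullback.fst _ _ ≫ (P l).map)
    (b := pullback.snd ((P l).opn.ι ≫ p) N.hom)
    (q := pullback.fst ((P l).opn.ι ≫ p) N.hom ≫ (P l).opn.ι ≫ p)
    ((P l).comm' _) pullback.condition.symm (P l).sec (P k).sec
  let G : Set (pullback p N.hom : Scheme.{u}) := ⋃ l, e l '' S l
  have hG : IsOpen G := isOpen_iUnion fun l => (e l).isOpenEmbedding.isOpenMap _ (isOpen_same _ _ _ _ _)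
  have hQ : ∀ y : (pullback p N.hom : Scheme.{u}), ∃ l q, e l q = y := fun y => by
    obtain ⟨l, hl⟩ := hcov (pullback.fst p N.hom y)
    refine ⟨l, ?_⟩
    have : y ∈ Set.range (e l) := by
      simp only [e]
      rw [Scheme.Pullback.range_map, Scheme.Opens.range_ι]
      exact ⟨hl, by simp⟩
    exact this
  have hu : ∀ y, pullback.snd p N.hom y = u → y ∈ G := by
    intro y hy
    obtain ⟨l, q, hq⟩ := hQ y
    obtain ⟨r, hr, -⟩ := Scheme.Pullback.exists_preimage_pullback
      (f := pullback.snd ((P l).opn.ι ≫ p) N.hom) (g := (P k).map) q ⟨x', hk⟩ (by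
        rw [← hse, Scheme.Hom.comp_apply, hq, hy])
    let g := geomPt _ r
    let c := g ≫ pullback.fst (pullback.snd ((P l).opn.ι ≫ p) N.hom) (P k).map
    let b := g ≫ pullback.snd (pullback.snd ((P l).opn.ι ≫ p) N.hom) (P k).map
    have hb : b ≫ (P k).map = c ≫ pullback.snd ((P l).opn.ι ≫ p) N.hom := by
      simp only [b, c, Category.assoc, pullback.condition]
    have hc : c default = q := by simp only [c, g, Scheme.Hom.comp_apply, geomPt_default, hr]
    refine Set.mem_iUnion.2 ⟨l, q, ?_, hq⟩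
    rw [← hc]
    simp only [S]
    rw [mem_same_iff]
    have h1 := h l k _ (c ≫ pullback.fst _ _ ≫ (P l).opn.ι ≫ p) (c ≫ pullback.fst _ _) b
      (((P l).comm' _).trans (by simp only [Category.assoc]))
      (by rw [hb, Category.assoc, ← pullback.condition])
    exact (val_congr' F rfl (Category.assoc _ _ _) hb).1 h1
  let O : N.left.Opens := ⟨(pullback.snd p N.hom '' Gᶜ)ᶜ,
    ((pullback.snd p N.hom).isClosedMap _ hG.isClosed_compl).isOpen_compl⟩
  have huO : u ∈ O := fun ⟨y, hy, hyu⟩ => hy (hu y hyu)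
  refine ⟨EtSite.sub N O, ⟨u, huO⟩, F.obj.map (EtSite.subHom N O).op (P k).sec, ?_, ?_⟩
  · show (O.ι ≫ N.hom) ⟨u, huO⟩ = x
    rw [Scheme.Hom.comp_apply]
    refine Eq.trans ?_ hx'
    show N.hom ((P k).map ⟨x', hk⟩) = p x'
    rw [← Scheme.Hom.comp_apply, (P k).comm]
    exact Scheme.Hom.comp_apply _ _ _
  · intro l Ω _ _ ξ a b₀ ha hb₀
    let b := b₀ ≫ O.ι
    have hb : b ≫ N.hom = ξ := (Category.assoc _ _ _).trans hb₀
    rw [val_map F ξ (EtSite.subHom N O) b₀ hb₀ b hb rfl]
    have hab : a ≫ (P l).opn.ι ≫ p = b ≫ N.hom := by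
      rw [← (P l).comm', ha, hb]
    let c : Spec (CommRingCat.of Ω) ⟶ Q l := pullback.lift a b hab
    suffices hm : c default ∈ S l by
      simp only [S] at hm
      rw [mem_same_iff] at hm
      exact (val_congr' F (by rw [← Category.assoc, pullback.lift_fst, hab, hb])
        (by rw [← Category.assoc, pullback.lift_fst]) (pullback.lift_snd _ _ _)).1 hm
    have hy : e l (c default) ∈ G := by
      by_contra hne
      refine (b₀ default).2 ⟨_, hne, ?_⟩
      rw [← Scheme.Hom.comp_apply, hse, ← Scheme.Hom.comp_apply, pullback.lift_snd]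
      exact Scheme.Hom.comp_apply _ _ _
    obtain ⟨l', q', hq', hqq⟩ := Set.mem_iUnion.1 hy
    obtain ⟨r, hr₁, hr₂⟩ := Scheme.Pullback.exists_preimage_pullback (f := e l) (g := e l')
      (c default) q' hqq.symm
    let g := geomPt _ r
    let f := g ≫ pullback.fst (e l) (e l')
    let f' := g ≫ pullback.snd (e l) (e l')
    have hf : f ≫ e l = f' ≫ e l' := by simp only [f, f', Category.assoc, pullback.condition]
    have h1 : (f ≫ pullback.fst _ _) ≫ (P l).opn.ι = (f' ≫ pullback.fst _ _) ≫ (P l').opn.ι := by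
      rw [Category.assoc, ← hfe, ← Category.assoc, hf, Category.assoc f' (e l'), hfe, ← Category.assoc]
    have h2 : f ≫ pullback.snd ((P l).opn.ι ≫ p) N.hom = f' ≫ pullback.snd ((P l').opn.ι ≫ p) N.hom := by
      rw [← hse, ← Category.assoc, hf, Category.assoc, hse]
    rw [show c default = f default by simp only [f, g, Scheme.Hom.comp_apply, geomPt_default, hr₁]]
    rw [show q' = f' default by simp only [f', g, Scheme.Hom.comp_apply, geomPt_default, hr₂]] at hq'
    simp only [S] at hq' ⊢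
    rw [mem_same_iff] at hq' ⊢
    have hξ : f' ≫ pullback.fst _ _ ≫ (P l').opn.ι ≫ p = f ≫ pullback.fst _ _ ≫ (P l).opn.ι ≫ p := by
      have := congrArg (· ≫ p) h1
      simpa only [Category.assoc] using this.symm
    have j := h l l' _ (f ≫ pullback.fst ((P l).opn.ι ≫ p) N.hom ≫ (P l).opn.ι ≫ p)
      (f ≫ pullback.fst _ _) (f' ≫ pullback.fst _ _)
      (((P l).comm' _).trans (by simp only [Category.assoc]))
      (((P l').comm' _).trans (by rw [← hξ]; simp only [Category.assoc]))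
    have j' := (val_congr' F rfl (Category.assoc _ _ _) (Category.assoc _ _ _)
      (ha' := by rw [Category.assoc, (P l).comm'])
      (hb' := by rw [Category.assoc, (P l').comm', hξ])).1 j
    exact j'.trans ((val_congr' F hξ rfl h2.symm).1 hq')

theorem exists_global (h : ∀ k l, Agrees (P k) (P l)) [IsIntegralHom p] [Surjective p]
    (hcov : ∀ x, ∃ k, x ∈ (P k).opn) :
    ∃ s₀ : F.obj.obj (op (EtCoh.top X)), ∀ (l : κ) (Ω : Type u) [Field Ω] [IsSepClosed Ω]
      (ξ : Spec (CommRingCat.of Ω) ⟶ X) (a : Spec (CommRingCat.of Ω) ⟶ (P l).opn)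
      (ha : (a ≫ (P l).map) ≫ (P l).obj.hom = ξ),
      val F ξ (a ≫ (P l).map) ha (P l).sec = val F ξ (V := EtCoh.top X) ξ (Category.comp_id _) s₀ := by
  choose N n s hn hs using exists_follows P h hcov
  have hcomp : ∀ x y, F.obj.map (prodFst (N x) (N y)).op (s x) = F.obj.map (prodSnd (N x) (N y)).op (s y) := by
    intro x y
    refine eq_of_agree F fun q₀ => ?_
    let M := Gabber24.prod (N x) (N y)
    obtain ⟨x', hx'⟩ := (inferInstance : Surjective p).surj (M.hom q₀)
    obtain ⟨l, hl⟩ := hcov x'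
    obtain ⟨q, hq₁, hq₂⟩ := Scheme.Pullback.exists_preimage_pullback (f := (P l).opn.ι ≫ p) (g := M.hom)
      ⟨x', hl⟩ q₀ ((Scheme.Hom.comp_apply _ _ _).trans hx')
    let g := geomPt _ q
    let a := g ≫ pullback.fst ((P l).opn.ι ≫ p) M.hom
    let b := g ≫ pullback.snd ((P l).opn.ι ≫ p) M.hom
    let φ : fib (b ≫ M.hom) M := Over.homMk b rfl
    have ha : (a ≫ (P l).map) ≫ (P l).obj.hom = b ≫ M.hom := by
      rw [(P l).comm']; simp only [a, b, Category.assoc, pullback.condition]
    rw [show q₀ = fibPt φ by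
      show q₀ = b default
      simp only [b, g, Scheme.Hom.comp_apply, geomPt_default, hq₂], mem_agree_iff_germ]
    have h1 := hs x l _ (b ≫ M.hom) a (b ≫ (prodFst (N x) (N y)).left) ha
      (by rw [Category.assoc, MorphismProperty.Over.w])
    have h2 := hs y l _ (b ≫ M.hom) a (b ≫ (prodSnd (N x) (N y)).left) ha
      (by rw [Category.assoc, MorphismProperty.Over.w])
    exact ((val_map F _ (prodFst (N x) (N y)) b rfl _ _ rfl (s x)).trans
      (h1.symm.trans h2)).trans (val_map F _ (prodSnd (N x) (N y)) b rfl _ _ rfl (s y)).symm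
  have hS : Sieve.ofArrows N (fun x => toTop (N x)) ∈ Scheme.smallEtaleTopology X (EtCoh.top X) :=
    (EtSite.mem_et_iff _ _).2 fun x => ⟨N x, toTop (N x), n x,
      Sieve.ofArrows_mk _ (f := fun x => toTop (N x)) x, hn x⟩
  have hsh : Presieve.IsSheafFor (F.obj ⋙ forget _)
      (Presieve.ofArrows N (fun x => toTop (N x))) :=
    (Presieve.isSheafFor_iff_generate _).2 (((isSheaf_iff_isSheaf_of_type _ _).1
      ((Presheaf.isSheaf_iff_isSheaf_forget _ F.obj (forget _)).1 F.property)) _ hS)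
  obtain ⟨s₀, hs₀, -⟩ := (Presieve.isSheafFor_arrows_iff _ _).1 hsh s (by
    intro x y W gx gy e
    let g : W ⟶ Gabber24.prod (N x) (N y) := MorphismProperty.Over.homMk
      (pullback.lift gx.left gy.left ((MorphismProperty.Over.w gx).trans (MorphismProperty.Over.w gy).symm))
      ((Category.assoc _ _ _).symm.trans
        ((congrArg (· ≫ (N x).hom) (pullback.lift_fst _ _ _)).trans (MorphismProperty.Over.w gx)))
    have e1 : g ≫ prodFst (N x) (N y) = gx := MorphismProperty.Over.Hom.ext (pullback.lift_fst _ _ _)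
    have e2 : g ≫ prodSnd (N x) (N y) = gy := MorphismProperty.Over.Hom.ext (pullback.lift_snd _ _ _)
    have := congrArg (F.obj.map g.op) (hcomp x y)
    show (F.obj ⋙ forget _).map gx.op (s x) = (F.obj ⋙ forget _).map gy.op (s y)
    rw [← e1, ← e2, op_comp, op_comp, Functor.map_comp, Functor.map_comp]
    exact this)
  refine ⟨s₀, fun l Ω _ _ ξ a ha => ?_⟩
  let x := ξ default
  obtain ⟨φ, hφ⟩ : ∃ b : Spec (CommRingCat.of Ω) ⟶ (N x).left, b ≫ (N x).hom = ξ := by
    haveI : AlgebraicGeometry.Etale (N x).hom := (N x).prop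
    obtain ⟨c, -⟩ := Scheme.pointSmallEtaleFiberObjToPreimage_surjective ξ
      (s₀ := x) rfl (N x) ⟨n x, hn x⟩
    exact ⟨c.left, Over.w c⟩
  rw [hs x l Ω ξ a φ ha hφ]
  have h1 := val_map F ξ (toTop (N x)) φ hφ ξ (Category.comp_id _) hφ s₀
  rw [show F.obj.map (toTop (N x)).op s₀ = s x from hs₀ x] at h1
  exact h1

theorem RigidSquare.surjective (h : RigidSquare p g g' p') (F : EtDesc.Sh X) :
    Function.Surjective (EtDesc.secPull g F) := by
  intro σ
  haveI := h.integral
  haveI := h.surj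
  haveI := h.spectralX
  haveI := h.spectralZ
  choose P hP using fun z : Z' => exists_piece (p := p) (F := F) h.w σ h.zl z
  obtain ⟨W, hW, hWA, hWcov, hWR, hWσ⟩ := exists_choice (X := X') (Z := Z') ⟨g', g'.continuous⟩ h.conn
    (fun k => ((P k).opn : Set X')) (fun k => (P k).opn.2) (fun k l => eqLocus (P k) (P l))
    (fun k l => isOpen_eqLocus _ _) (fun k l x hx => (eqLocus_subset _ _ hx).2) (fun k => eqLocus_refl _)
    (fun k l => eqLocus_symm _ _) (fun k l m => eqLocus_trans _ _ _)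
    (fun k => goodLocus h.w σ (P k)) (fun k => isOpen_goodLocus _ _ _) (fun k => goodLocus_subset _ _ _)
    (fun z => ⟨z, hP z⟩) (fun k l => goodLocus_inter _ _ _ _)
  let P' : Z' → Piece p F := fun k =>
    { opn := ⟨W k, hW k⟩
      obj := (P k).obj
      map := X'.homOfLE (V := (P k).opn) (hWA k) ≫ (P k).map
      comm := by rw [Category.assoc, (P k).comm, Scheme.homOfLE_ι_assoc]
      sec := (P k).sec }
  have hσ : ∀ (k : Z') (Ω : Type u) [Field Ω] [IsSepClosed Ω] (η : Spec (CommRingCat.of Ω) ⟶ Z')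
      (a : Spec (CommRingCat.of Ω) ⟶ (P' k).opn) (ha : a ≫ (P' k).opn.ι = η ≫ g'),
      At g F σ (η ≫ p') (η ≫ p') (Category.comp_id _) (a ≫ (P' k).map)
        (by rw [(P' k).comm', ← Category.assoc, ha, Category.assoc, Category.assoc, h.w]) (P' k).sec := by
    intro k Ω _ _ η a ha
    have hk : g' (η default) ∈ W k := by
      rw [← Scheme.Hom.comp_apply, ← ha, Scheme.Hom.comp_apply]; exact (a default).2
    have hR : g' (η default) ∈ eqLocus (P k) (P (η default)) := hWσ k _ _ (hP (η default)) hk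
    let a₁ := a ≫ X'.homOfLE (V := (P k).opn) (hWA k)
    have ha₁ : a₁ ≫ (P k).opn.ι = η ≫ g' := by rw [Category.assoc, Scheme.homOfLE_ι]; exact ha
    obtain ⟨b, hb⟩ := exists_lift_opn (P (η default)) (η ≫ g') (by
      rw [Scheme.Hom.comp_apply]; exact goodLocus_subset h.w σ _ (hP (η default)))
    have h1 := (mem_goodLocus_iff h.w σ (P (η default)) η b hb).mp (hP (η default))
    rw [← Scheme.Hom.comp_apply] at hR
    have h2 := (mem_eqLocus_iff (P k) (P (η default)) (η ≫ g') a₁ b ha₁ hb).mp hR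
    refine h1.congr ?_
    exact (val_congr' F (by simp only [Category.assoc, h.w]) rfl (Category.assoc _ _ _)).mp h2.symm
  let Y := pullback p p
  let q : Y ⟶ X := pullback.fst p p ≫ p
  let T : Z' → Z' → Y.Opens := fun k l => (pullback.fst p p ⁻¹ᵁ (P' k).opn) ⊓ (pullback.snd p p ⁻¹ᵁ (P' l).opn)
  let S : ∀ k l, Set (T k l : Scheme.{u}) := fun k l => same F
    (a := Y.homOfLE inf_le_left ≫ (pullback.fst p p ∣_ (P' k).opn) ≫ (P' k).map)
    (b := Y.homOfLE inf_le_right ≫ (pullback.snd p p ∣_ (P' l).opn) ≫ (P' l).map)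
    (q := (T k l).ι ≫ q)
    (by rw [Category.assoc, Category.assoc, (P' k).comm, morphismRestrict_ι_assoc, Scheme.homOfLE_ι_assoc])
    (by rw [Category.assoc, Category.assoc, (P' l).comm, morphismRestrict_ι_assoc, Scheme.homOfLE_ι_assoc,
      ← pullback.condition]) (P' k).sec (P' l).sec
  let G : Set Y := ⋃ (k) (l), (T k l).ι '' S k l
  have hGo : IsOpen G := isOpen_iUnion fun k => isOpen_iUnion fun l =>
    (T k l).ι.isOpenEmbedding.isOpenMap _ (isOpen_same _ _ _ _ _)
  have hcrit : ∀ (k l : Z') (Ω : Type u) [Field Ω] [IsSepClosed Ω] (η : Spec (CommRingCat.of Ω) ⟶ Y)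
      (a : Spec (CommRingCat.of Ω) ⟶ (P' k).opn) (ha : a ≫ (P' k).opn.ι = η ≫ pullback.fst p p)
      (b : Spec (CommRingCat.of Ω) ⟶ (P' l).opn) (hb : b ≫ (P' l).opn.ι = η ≫ pullback.snd p p),
      η default ∈ (T k l).ι '' S k l ↔
        val F (η ≫ q) (a ≫ (P' k).map) (by rw [(P' k).comm', ← Category.assoc, ha, Category.assoc]) (P' k).sec =
          val F (η ≫ q) (b ≫ (P' l).map)
            (by rw [(P' l).comm', ← Category.assoc, hb, Category.assoc, ← pullback.condition]) (P' l).sec := by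
    intro k l Ω _ _ η a ha b hb
    let e := IsOpenImmersion.lift (T k l).ι η (by
      rintro _ ⟨v, rfl⟩
      rw [Scheme.Opens.range_ι]
      refine ⟨?_, ?_⟩
      · show pullback.fst p p (η v) ∈ (P' k).opn
        rw [← Scheme.Hom.comp_apply, ← ha, Scheme.Hom.comp_apply]; exact (a v).2
      · show pullback.snd p p (η v) ∈ (P' l).opn
        rw [← Scheme.Hom.comp_apply, ← hb, Scheme.Hom.comp_apply]; exact (b v).2)
    have he : e ≫ (T k l).ι = η := IsOpenImmersion.lift_fac _ _ _
    have hea : e ≫ Y.homOfLE inf_le_left ≫ (pullback.fst p p ∣_ (P' k).opn) = a := by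
      rw [← cancel_mono (P' k).opn.ι, Category.assoc, Category.assoc, morphismRestrict_ι, Scheme.homOfLE_ι_assoc,
        ← Category.assoc, he, ha]
    have heb : e ≫ Y.homOfLE inf_le_right ≫ (pullback.snd p p ∣_ (P' l).opn) = b := by
      rw [← cancel_mono (P' l).opn.ι, Category.assoc, Category.assoc, morphismRestrict_ι, Scheme.homOfLE_ι_assoc,
        ← Category.assoc, he, hb]
    rw [show η default = (T k l).ι (e default) by rw [← Scheme.Hom.comp_apply, he],
      (T k l).ι.isOpenEmbedding.injective.mem_set_image, mem_same_iff]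
    exact val_congr' F (by rw [← Category.assoc, he]) (by rw [← hea]; simp only [Category.assoc])
      (by rw [← heb]; simp only [Category.assoc])
  have hlift : ∀ (k : Z') (Ω : Type u) [Field Ω] (ξ : Spec (CommRingCat.of Ω) ⟶ X'), ξ default ∈ W k →
      ∃ a : Spec (CommRingCat.of Ω) ⟶ (P' k).opn, a ≫ (P' k).opn.ι = ξ :=
    fun k Ω _ ξ hk => exists_lift_opn (P' k) ξ hk
  have hG : G = Set.univ := by
    by_contra hne
    haveI : IsIntegralHom q := by simp only [q]; infer_instance
    obtain ⟨z, y, hy, hyz⟩ := h.meets (q '' Gᶜ) (q.isClosedMap _ hGo.isClosed_compl)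
      ((Set.nonempty_compl.mpr hne).image _)
    obtain ⟨r, hr, -⟩ := Scheme.Pullback.exists_preimage_pullback (f := q) (g := g) y z hyz
    let η₀ := geomPt _ r
    let η := η₀ ≫ pullback.fst q g
    let c := η₀ ≫ pullback.snd q g
    have hη : η default = y := by simp only [η, η₀, Scheme.Hom.comp_apply, geomPt_default, hr]
    have hc : η ≫ q = c ≫ g := by simp only [η, c, Category.assoc, pullback.condition]
    obtain ⟨l₁, h11, h12⟩ := h.lift (η ≫ pullback.fst p p) c (by rw [Category.assoc]; exact hc)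
    obtain ⟨l₂, h21, h22⟩ := h.lift (η ≫ pullback.snd p p) c (by
      rw [Category.assoc, ← pullback.condition]; exact hc)
    obtain ⟨k, hk⟩ := hWcov ((η ≫ pullback.fst p p) default)
    obtain ⟨l, hl⟩ := hWcov ((η ≫ pullback.snd p p) default)
    obtain ⟨a, ha⟩ := hlift k _ _ hk
    obtain ⟨b, hb⟩ := hlift l _ _ hl
    have e1 := hσ k _ l₁ a (ha.trans h11.symm)
    have e2 := hσ l _ l₂ b (hb.trans h21.symm)
    refine hy (Set.mem_iUnion₂.mpr ⟨k, l, ?_⟩)
    rw [← hη]
    refine (hcrit k l _ η a ha b hb).mpr ?_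
    have e1' : At g F σ c c (Category.comp_id _) (a ≫ (P' k).map)
        (by rw [(P' k).comm', ← Category.assoc, ha, Category.assoc, hc]) (P' k).sec := by
      exact at_congr_pt h12 e1
    have e2' : At g F σ c c (Category.comp_id _) (b ≫ (P' l).map)
        (by rw [(P' l).comm', ← Category.assoc, hb, Category.assoc, ← pullback.condition, hc]) (P' l).sec := by
      exact at_congr_pt h22 e2
    exact (val_congr' F hc.symm rfl rfl).mp (e1'.val_eq e2')
  have hAgree : ∀ k l, Agrees (P' k) (P' l) := by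
    intro k l Ω _ _ ξ a b ha hb
    have hab : (a ≫ (P' k).opn.ι) ≫ p = (b ≫ (P' l).opn.ι) ≫ p := by
      rw [Category.assoc, Category.assoc, ← (P' k).comm', ← (P' l).comm', ha, hb]
    let η : Spec (CommRingCat.of Ω) ⟶ Y := pullback.lift _ _ hab
    have hη1 : a ≫ (P' k).opn.ι = η ≫ pullback.fst p p := (pullback.lift_fst _ _ _).symm
    have hη2 : b ≫ (P' l).opn.ι = η ≫ pullback.snd p p := (pullback.lift_snd _ _ _).symm
    obtain ⟨k', l', hmem⟩ := Set.mem_iUnion₂.mp (hG.ge (Set.mem_univ (η default)))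
    obtain ⟨y, hyS, hy⟩ := hmem
    have hk' : (a ≫ (P' k).opn.ι) default ∈ W k' := by
      rw [hη1, Scheme.Hom.comp_apply, ← hy]; exact y.2.1
    have hl' : (b ≫ (P' l).opn.ι) default ∈ W l' := by
      rw [hη2, Scheme.Hom.comp_apply, ← hy]; exact y.2.2
    obtain ⟨a', ha'⟩ := hlift k' _ _ hk'
    obtain ⟨b', hb'⟩ := hlift l' _ _ hl'
    have e := (hcrit k' l' _ η a' (ha'.trans hη1) b' (hb'.trans hη2)).mp ⟨y, hyS, hy⟩
    have hkk : (a ≫ (P' k).opn.ι) default ∈ eqLocus (P k) (P k') :=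
      hWR k k' ⟨by rw [Scheme.Hom.comp_apply]; exact (a default).2, hk'⟩
    have hll : (b ≫ (P' l).opn.ι) default ∈ eqLocus (P l) (P l') :=
      hWR l l' ⟨by rw [Scheme.Hom.comp_apply]; exact (b default).2, hl'⟩
    have fk := (mem_eqLocus_iff (P k) (P k') _ (a ≫ X'.homOfLE (V := (P k).opn) (hWA k))
      (a' ≫ X'.homOfLE (V := (P k').opn) (hWA k'))
      (by rw [Category.assoc, Scheme.homOfLE_ι])
      (by rw [Category.assoc, Scheme.homOfLE_ι]; exact ha')).mp hkk
    have fl := (mem_eqLocus_iff (P l) (P l') _ (b ≫ X'.homOfLE (V := (P l).opn) (hWA l))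
      (b' ≫ X'.homOfLE (V := (P l').opn) (hWA l'))
      (by rw [Category.assoc, Scheme.homOfLE_ι])
      (by rw [Category.assoc, Scheme.homOfLE_ι]; exact hb')).mp hll
    have hξa : (a ≫ (P' k).opn.ι) ≫ p = ξ := by rw [Category.assoc, ← (P' k).comm', ha]
    have hξb : (b ≫ (P' l).opn.ι) ≫ p = ξ := by rw [← hab]; exact hξa
    have hξη : η ≫ q = ξ := by rw [← Category.assoc, ← hη1]; exact hξa
    have hva : (a' ≫ (P' k').map) ≫ (P' k').obj.hom = ξ := by
      rw [(P' k').comm', ← Category.assoc, ha']; exact hξa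
    have hvb : (b' ≫ (P' l').map) ≫ (P' l').obj.hom = ξ := by
      rw [(P' l').comm', ← Category.assoc, hb']; exact hξb
    have h1 : val F ξ (a ≫ (P' k).map) ha (P' k).sec = val F ξ (a' ≫ (P' k').map) hva (P' k').sec :=
      (val_congr' F hξa (Category.assoc _ _ _) (Category.assoc _ _ _)).mp fk
    have h2 : val F ξ (a' ≫ (P' k').map) hva (P' k').sec = val F ξ (b' ≫ (P' l').map) hvb (P' l').sec :=
      (val_congr' F hξη rfl rfl).mp e
    have h3 : val F ξ (b ≫ (P' l).map) hb (P' l).sec = val F ξ (b' ≫ (P' l').map) hvb (P' l').sec :=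
      (val_congr' F hξb (Category.assoc _ _ _) (Category.assoc _ _ _)).mp fl
    exact h1.trans (h2.trans h3.symm)
  obtain ⟨s₀, hs₀⟩ := exists_global P' hAgree hWcov
  refine ⟨s₀, eq_of_agree _ (U := EtCoh.top Z) fun z => ?_⟩
  obtain ⟨x, hx⟩ := (inferInstance : Surjective p).surj (g z)
  obtain ⟨r, -, hr⟩ := Scheme.Pullback.exists_preimage_pullback (f := p) (g := g) x z hx
  let η₀ := geomPt _ r
  obtain ⟨η, hη1, hη2⟩ := h.lift (η₀ ≫ pullback.fst p g) (η₀ ≫ pullback.snd p g)
    (by simp only [Category.assoc, pullback.condition])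
  let ζ := η ≫ p'
  let φ : fib ζ (EtCoh.top Z) := Over.homMk ζ (Category.comp_id _)
  have hz : z = fibPt φ := by
    show z = ζ default
    simp only [ζ, hη2, η₀, Scheme.Hom.comp_apply, geomPt_default, hr]
  rw [hz]
  refine (mem_agree_iff_germ _ φ _ _).mpr ?_
  obtain ⟨k, hk⟩ := hWcov ((η ≫ g') default)
  obtain ⟨a, ha⟩ := hlift k _ _ hk
  have h1 := hσ k _ η a ha
  have h2 := at_secPull (g := g) F s₀ ζ
  exact h2.trans ((h1.congr (hs₀ k _ (ζ ≫ g) a _)).symm)

/-- Global sections along a rigid square are bijective. -/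
theorem RigidSquare.bijective (h : RigidSquare p g g' p') (F : EtDesc.Sh X) :
    Function.Bijective (EtDesc.secPull g F) := ⟨h.injective F, h.surjective F⟩

end Groth.Agent.GabberRig6
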