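import Groth.Agent.Lib.GabberRig6.Conn
import Groth.Agent.Lib.GabberRig6.H0
import Groth.Agent.Lib.AIC6.Local
import Groth.Agent.Lib.AbsClosure4.Algebra
import Mathlib

/-! # The rigid square of an absolutely integrally closed cover -/

set_option autoImplicit false
universe u
set_option backward.isDefEq.respectTransparency.types false
set_option linter.style.haveILetI false

open CategoryTheory CategoryTheory.Limits AlgebraicGeometry TopologicalSpace
open scoped TensorProduct

namespace Groth.Agent.GabberRig6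

variable {A A' : Type u} [CommRing A] [CommRing A'] [Algebra A A'] {I : Ideal A}

/-- An absolutely integrally closed integral cover. -/
theorem exists_aic_cover (A : Type u) [CommRing A] :
    ∃ (B : Type u) (_ : CommRing B) (_ : Algebra A B), Algebra.IsIntegral A B ∧ Curves.IsAIC B ∧
      Function.Surjective (PrimeSpectrum.comap (algebraMap A B)) := by
  let L : PrimeSpectrum A → Type u := fun p => AlgebraicClosure p.asIdeal.ResidueField
  let B := integralClosure A (∀ p, L p)
  refine ⟨B, inferInstance, inferInstance, inferInstance, fun f hf hdeg => ?_, fun p => ?_⟩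
  · obtain ⟨r, hr⟩ := AbsClosure4.monicRoots_integralClosure (R := A) (L := L) f hf hdeg.ne'
    exact ⟨r, hr⟩
  · refine ⟨⟨RingHom.ker ((Pi.evalRingHom L p).comp B.val.toRingHom), RingHom.ker_isPrime _⟩,
      PrimeSpectrum.ext (Ideal.ext fun a => ?_)⟩
    show algebraMap A (L p) a = 0 ↔ a ∈ p.asIdeal
    rw [IsScalarTower.algebraMap_apply A p.asIdeal.ResidueField (L p),
      map_eq_zero_iff _ (algebraMap p.asIdeal.ResidueField (L p)).injective, ← RingHom.mem_ker,
      Ideal.ker_algebraMap_residueField]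

/-- Base change of `Approx` along an integral algebra. -/
theorem Approx.tensor (h : Approx (A' := A') I) (B : Type u) [CommRing B] [Algebra A B] [Algebra.IsIntegral A B] :
    Approx (A' := B ⊗[A] A') (I.map (algebraMap A B)) := by
  let C := B ⊗[A] A'
  have hmap : ∀ m : ℕ, ((I.map (algebraMap A B)) ^ m).map (algebraMap B C) = (I ^ m).map (algebraMap A C) :=
    fun m => by rw [← Ideal.map_pow, Ideal.map_map, ← IsScalarTower.algebraMap_eq]
  have hfac : ∀ J : Ideal A, J.map (algebraMap A C) =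
      (J.map (algebraMap A A')).map (Algebra.TensorProduct.includeRight : A' →ₐ[A] C).toRingHom := fun J => by
    rw [Ideal.map_map]
    exact congrArg (J.map ·) (RingHom.ext fun a => ((Algebra.TensorProduct.includeRight : A' →ₐ[A] C).commutes a).symm)
  refine ⟨?_, fun m c => ?_, fun m b hb => ?_⟩
  · have h1 := hmap 1
    rw [pow_one, pow_one] at h1
    rw [h1, hfac]
    refine (Ideal.map_mono h.jac).trans ?_
    letI : Algebra A' C := (Algebra.TensorProduct.includeRight : A' →ₐ[A] C).toRingHom.toAlgebra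
    haveI : Algebra.IsIntegral A' C := ⟨fun c => by
      induction c using TensorProduct.induction_on with
      | zero => exact isIntegral_zero
      | add x y hx hy => exact hx.add hy
      | tmul b a' =>
        have : b ⊗ₜ[A] a' = (b ⊗ₜ[A] (1 : A')) * algebraMap A' C a' := by
          show _ = (b ⊗ₜ[A] (1 : A')) * ((1 : B) ⊗ₜ[A] a')
          rw [Algebra.TensorProduct.tmul_mul_tmul, mul_one, one_mul]
        rw [this]
        refine IsIntegral.mul ?_ isIntegral_algebraMap
        haveI : IsScalarTower A A' C := IsScalarTower.of_algebraMap_eq fun a =>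
          ((Algebra.TensorProduct.includeRight : A' →ₐ[A] C).commutes a).symm
        exact (((Algebra.IsIntegral.isIntegral (R := A) b).map
          (Algebra.TensorProduct.includeLeft : B →ₐ[A] C))).tower_top⟩
    refine le_sInf fun M hM => ?_
    haveI : M.IsMaximal := hM.2
    exact Ideal.map_le_iff_le_comap.mpr (sInf_le ⟨bot_le, Ideal.isMaximal_comap_of_isIntegral_of_isMaximal M⟩)
  · rw [hmap]
    induction c using TensorProduct.induction_on with
    | zero => exact ⟨0, by simp⟩
    | add x y hx hy =>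
      obtain ⟨a, ha⟩ := hx
      obtain ⟨b, hb⟩ := hy
      refine ⟨a + b, ?_⟩
      rw [map_add, add_sub_add_comm]
      exact Ideal.add_mem _ ha hb
    | tmul b a' =>
      obtain ⟨a, ha⟩ := h.lift m a'
      refine ⟨algebraMap A B a * b, ?_⟩
      have : b ⊗ₜ[A] a' - algebraMap B C (algebraMap A B a * b) =
          (b ⊗ₜ[A] (1 : A')) * (Algebra.TensorProduct.includeRight : A' →ₐ[A] C).toRingHom (a' - algebraMap A A' a) := by
        show b ⊗ₜ[A] a' - (algebraMap A B a * b) ⊗ₜ[A] (1 : A') = (b ⊗ₜ[A] (1 : A')) * ((1 : B) ⊗ₜ[A] (a' - algebraMap A A' a))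
        rw [Algebra.TensorProduct.tmul_mul_tmul, mul_one, one_mul, TensorProduct.tmul_sub, ← Algebra.smul_def,
          TensorProduct.smul_tmul, ← Algebra.algebraMap_eq_smul_one]
      rw [this, hfac]
      exact Ideal.mul_mem_left _ _ (Ideal.mem_map_of_mem _ ha)
  · let π : B →ₐ[A] B ⧸ (I.map (algebraMap A B)) ^ m := Ideal.Quotient.mkₐ A _
    let ψ₀ : A →+* B ⧸ (I.map (algebraMap A B)) ^ m := algebraMap _ _
    have hψ : ∀ a ∈ I ^ m, ψ₀ a = 0 := fun a ha => by
      show Ideal.Quotient.mk _ (algebraMap A B a) = 0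
      rw [Ideal.Quotient.eq_zero_iff_mem, ← Ideal.map_pow]
      exact Ideal.mem_map_of_mem _ ha
    choose f hf using h.lift m
    have key : ∀ (x : A') (a : A), x - algebraMap A A' a ∈ (I ^ m).map (algebraMap A A') → ψ₀ (f x) = ψ₀ a := by
      intro x a ha
      rw [← sub_eq_zero, ← map_sub]
      refine hψ _ (h.contract m _ ?_)
      rw [map_sub, show algebraMap A A' (f x) - algebraMap A A' a =
        (x - algebraMap A A' a) - (x - algebraMap A A' (f x)) by ring]
      exact Ideal.sub_mem _ ha (hf x)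
    let ψ : A' →ₐ[A] B ⧸ (I.map (algebraMap A B)) ^ m :=
      { toFun := fun x => ψ₀ (f x)
        map_one' := (key 1 1 (by simp)).trans ψ₀.map_one
        map_mul' := fun x y => (key (x * y) (f x * f y) (by
          rw [map_mul, show x * y - algebraMap A A' (f x) * algebraMap A A' (f y) =
            x * (y - algebraMap A A' (f y)) + (x - algebraMap A A' (f x)) * algebraMap A A' (f y) by ring]
          exact Ideal.add_mem _ (Ideal.mul_mem_left _ _ (hf y)) (Ideal.mul_mem_right _ _ (hf x)))).trans (map_mul _ _ _)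
        map_zero' := (key 0 0 (by simp)).trans ψ₀.map_zero
        map_add' := fun x y => (key (x + y) (f x + f y) (by
          rw [map_add, add_sub_add_comm]; exact Ideal.add_mem _ (hf x) (hf y))).trans (map_add _ _ _)
        commutes' := fun a => key (algebraMap A A' a) a (by simp) }
    let Φ : C →ₐ[A] B ⧸ (I.map (algebraMap A B)) ^ m := Algebra.TensorProduct.lift π ψ fun _ _ => Commute.all _ _
    have hker : ((I.map (algebraMap A B)) ^ m).map (algebraMap B C) ≤ RingHom.ker Φ.toRingHom := by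
      rw [hmap, Ideal.map_le_iff_le_comap]
      intro a ha
      show Φ (algebraMap A C a) = 0
      rw [AlgHom.commutes]
      exact hψ a ha
    have h0 : Φ (algebraMap B C b) = 0 := hker hb
    rw [show algebraMap B C b = b ⊗ₜ[A] (1 : A') from rfl] at h0
    have h1 : Φ (b ⊗ₜ[A] (1 : A')) = π b :=
      (Algebra.TensorProduct.lift_tmul π ψ (fun _ _ => Commute.all _ _) b 1).trans (by rw [map_one, mul_one])
    exact Ideal.Quotient.eq_zero_iff_mem.mp (h1.symm.trans h0)

/-- Global sections of sheaves of sets are rigid. -/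
theorem bijective_secPull (hA : HenselianRing A I) (h : Approx (A' := A') I) (hI : I.FG)
    (U : (Spec (CommRingCat.of A)).Opens) (hU : IsCompact (U : Set (Spec (CommRingCat.of A))))
    (hUI : ∀ x : Spec (CommRingCat.of A), x ∉ U → I ≤ x.asIdeal) (F : EtDesc.Sh (U : Scheme.{u})) :
    Function.Bijective (EtDesc.secPull ((Spec.map (CommRingCat.ofHom (algebraMap A A'))) ∣_ U) F) := by
  obtain ⟨B, _, _, hint, hB, hsurj⟩ := exists_aic_cover A
  haveI := hint
  let C := B ⊗[A] A'
  let hBC := h.tensor B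
  have hAB : HenselianRing B (I.map (algebraMap A B)) := Hens.henselianRing_of_isIntegral hA
  let ρ : Spec (CommRingCat.of A') ⟶ Spec (CommRingCat.of A) := Spec.map (CommRingCat.ofHom (algebraMap A A'))
  let β : Spec (CommRingCat.of B) ⟶ Spec (CommRingCat.of A) := Spec.map (CommRingCat.ofHom (algebraMap A B))
  let γ : Spec (CommRingCat.of C) ⟶ Spec (CommRingCat.of B) := Spec.map (CommRingCat.ofHom (algebraMap B C))
  let δ : Spec (CommRingCat.of C) ⟶ Spec (CommRingCat.of A') :=
    Spec.map (CommRingCat.ofHom (Algebra.TensorProduct.includeRight : A' →ₐ[A] C).toRingHom)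
  have hpb : IsPullback γ δ β ρ := isPullback_SpecMap_of_isPushout _ _ _ _
    (CommRingCat.isPushout_tensorProduct A B A')
  have hβint : IsIntegralHom β := by
    rw [IsIntegralHom.SpecMap_iff]
    exact algebraMap_isIntegral_iff.mpr hint
  haveI : Surjective β := ⟨hsurj⟩
  let V : (Spec (CommRingCat.of B)).Opens := β ⁻¹ᵁ U
  have hδ : γ ⁻¹ᵁ V ≤ δ ⁻¹ᵁ (ρ ⁻¹ᵁ U) := fun y hy => by
    show ρ (δ y) ∈ U
    rw [← Scheme.Hom.comp_apply, ← hpb.w, Scheme.Hom.comp_apply]
    exact hy
  have hVc : IsCompact (V : Set (Spec (CommRingCat.of B))) := QuasiCompact.isCompact_preimage _ U.2 hU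
  have hVI : ∀ x : PrimeSpectrum B, x ∉ (V : Set (Spec (CommRingCat.of B))) → I.map (algebraMap A B) ≤ x.asIdeal :=
    fun x hx => Ideal.map_le_iff_le_comap.mpr (hUI _ hx)
  have hV'c : IsCompact ((γ ⁻¹ᵁ V : (Spec (CommRingCat.of C)).Opens) : Set (Spec (CommRingCat.of C))) :=
    QuasiCompact.isCompact_preimage _ V.2 hVc
  haveI hcV : CompactSpace V := isCompact_iff_compactSpace.mp hVc
  haveI hcV' : CompactSpace (γ ⁻¹ᵁ V : (Spec (CommRingCat.of C)).Opens) := isCompact_iff_compactSpace.mp hV'c
  haveI sB : SpectralSpace (Spec (CommRingCat.of B)) := inferInstanceAs (SpectralSpace (PrimeSpectrum B))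
  haveI sC : SpectralSpace (Spec (CommRingCat.of C)) := inferInstanceAs (SpectralSpace (PrimeSpectrum C))
  refine RigidSquare.bijective (p := β ∣_ U) (g := ρ ∣_ U) (g' := γ ∣_ V) (p' := δ.resLE (ρ ⁻¹ᵁ U) (γ ⁻¹ᵁ V) hδ) ⟨?_, ?_, ?_, ?_, ?_, ?_, ?_, ?_, ?_⟩ F
  · exact IsZariskiLocalAtTarget.restrict hβint U
  · exact IsZariskiLocalAtTarget.restrict ‹Surjective β› U
  · rw [← cancel_mono U.ι, Category.assoc, Category.assoc, morphismRestrict_ι, morphismRestrict_ι,
      Scheme.Hom.resLE_comp_ι_assoc, morphismRestrict_ι_assoc, hpb.w]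
  · intro S a c hac
    have e : (a ≫ V.ι) ≫ β = (c ≫ (ρ ⁻¹ᵁ U).ι) ≫ ρ := by
      have := congrArg (· ≫ U.ι) hac
      simpa only [Category.assoc, morphismRestrict_ι] using this
    let l₀ := hpb.lift _ _ e
    have hl₀ : l₀ ≫ γ = a ≫ V.ι := hpb.lift_fst _ _ e
    let l : S ⟶ (γ ⁻¹ᵁ V : Scheme.{u}) := IsOpenImmersion.lift (γ ⁻¹ᵁ V).ι l₀ (by
      rintro _ ⟨s, rfl⟩
      rw [Scheme.Opens.range_ι]
      show γ (l₀ s) ∈ V
      rw [← Scheme.Hom.comp_apply, hl₀, Scheme.Hom.comp_apply]
      exact (a s).2)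
    refine ⟨l, ?_, ?_⟩
    · rw [← cancel_mono V.ι, Category.assoc, morphismRestrict_ι, IsOpenImmersion.lift_fac_assoc]
      exact hl₀
    · rw [← cancel_mono (ρ ⁻¹ᵁ U).ι, Category.assoc, Scheme.Hom.resLE_comp_ι, IsOpenImmersion.lift_fac_assoc]
      exact hpb.lift_snd _ _ e
  · intro N u
    haveI : AlgebraicGeometry.Etale N.hom := N.prop
    obtain ⟨W, hW, hWo⟩ := AIC6.zl_spec hB (MorphismProperty.Over.mk ⊤ (N.hom ≫ V.ι)
      (show AlgebraicGeometry.Etale (N.hom ≫ V.ι) from inferInstance)) u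
    refine ⟨W, hW, ?_⟩
    haveI h' : IsOpenImmersion ((W.ι ≫ N.hom) ≫ V.ι) := by rw [Category.assoc]; exact hWo
    exact @IsOpenImmersion.of_comp _ _ _ (W.ι ≫ N.hom) V.ι _ h'
  · intro x
    have hset : (Subtype.val '' ((γ ∣_ V) ⁻¹' closure {x}) : Set (PrimeSpectrum C)) =
        PrimeSpectrum.comap (algebraMap B C) ⁻¹' (V : Set (Spec (CommRingCat.of B))) ∩
          PrimeSpectrum.comap (algebraMap B C) ⁻¹' PrimeSpectrum.zeroLocus ((x.1.asIdeal : Ideal B) : Set B) := by
      ext z
      constructor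
      · rintro ⟨z, hz, rfl⟩
        refine ⟨z.2, ?_⟩
        have hs : x.1 ⤳ γ z.1 := by
          have := (specializes_iff_mem_closure.mpr hz).map continuous_subtype_val
          rwa [morphismRestrict_base_coe] at this
        exact (PrimeSpectrum.le_iff_specializes x.1 (γ z.1)).mpr hs
      · rintro ⟨hzV, hzx⟩
        refine ⟨⟨z, hzV⟩, specializes_iff_mem_closure.mp ?_, rfl⟩
        refine (Topology.IsInducing.subtypeVal.specializes_iff).mp ?_
        rw [morphismRestrict_base_coe]
        exact (PrimeSpectrum.le_iff_specializes x.1 (γ z)).mp hzx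
    have hc : _root_.IsConnected (Subtype.val '' ((γ ∣_ V) ⁻¹' closure {x}) : Set (PrimeSpectrum C)) := by
      rw [hset]
      exact isConnected_preimage hAB hBC (hI.map _) V.2 hVc hVI x.1 x.2
    exact ⟨Set.image_nonempty.mp hc.nonempty,
      (Topology.IsInducing.subtypeVal.isPreconnected_image).mp hc.isPreconnected⟩
  · exact @Topology.IsOpenEmbedding.spectralSpace _ _ _ _ (Subtype.val : V → Spec (CommRingCat.of B)) sB hcV V.2.isOpenEmbedding_subtypeVal
  · exact @Topology.IsOpenEmbedding.spectralSpace _ _ _ _ (Subtype.val : (γ ⁻¹ᵁ V : (Spec (CommRingCat.of C)).Opens) → Spec (CommRingCat.of C)) sC hcV' (γ ⁻¹ᵁ V).2.isOpenEmbedding_subtypeVal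
  · intro C' hC' hne
    by_contra hnot
    have h0 := eq_empty_of_preimage (A' := A') hA.jac h hI (U := (U : Set (Spec (CommRingCat.of A))))
      (W := (Subtype.val '' C' : Set (PrimeSpectrum A))) hUI ?_ ?_
    · exact (hne.image _).ne_empty h0
    · rintro _ ⟨x, hx, rfl⟩ y hy hs
      exact ⟨⟨y, hy⟩, ((Topology.IsInducing.subtypeVal.specializes_iff (x := x) (y := (⟨y, hy⟩ : U))).mp hs).mem_closed
        hC' hx, rfl⟩
    · refine Set.eq_empty_iff_forall_notMem.mpr fun z hz => ?_
      obtain ⟨x, hx, hxz⟩ := hz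
      have hzU : (PrimeSpectrum.comap (algebraMap A A') z : Spec (CommRingCat.of A)) ∈ U := by
        rw [← hxz]; exact x.2
      refine hnot ⟨⟨z, hzU⟩, ?_⟩
      have : (ρ ∣_ U) ⟨z, hzU⟩ = x := Subtype.ext ((morphismRestrict_base_coe _ _ _).trans hxz.symm)
      rw [this]; exact hx

end Groth.Agent.GabberRig6
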