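import Groth.Agent.Lib.GabberRig6.BlowUp
import Mathlib

/-! # Gabber's rigidity for clopen subsets -/

set_option autoImplicit false
universe u
set_option backward.isDefEq.respectTransparency.types false
set_option linter.style.haveILetI false

open CategoryTheory CategoryTheory.Limits AlgebraicGeometry TopologicalSpace IsLocalRing

namespace Groth.Agent.GabberRig6

variable {A : Type u} [CommRing A] {I : Ideal A}

section Side

variable {X : Scheme.{u}} (b : X ⟶ Spec (CommRingCat.of A)) {K P Q : Ideal A}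

theorem gS_comp (y : X) {R : Type u} [CommRing R] [IsLocalRing R] (l : Spec (CommRingCat.of R) ⟶ X)
    (hy : l (closedPoint R) = y) (ρ : A →+* R) (hl : l ≫ b = Spec.map (CommRingCat.ofHom ρ)) :
    ∃ ψ : X.presheaf.stalk y →+* R, IsLocalHom ψ ∧ ψ.comp (gS b y) = ρ := by
  subst hy
  refine ⟨(Scheme.stalkClosedPointTo l).hom, Scheme.isLocalHom_stalkClosedPointTo' l, ?_⟩
  show ((Scheme.ΓSpecIso (CommRingCat.of A)).inv ≫ b.appTop ≫ X.presheaf.germ ⊤ _ trivial ≫
    Scheme.stalkClosedPointTo l).hom = (CommRingCat.ofHom ρ).hom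
  congr 1
  have h1 : X.presheaf.germ ⊤ _ trivial ≫ Scheme.stalkClosedPointTo l =
      l.appTop ≫ (Scheme.ΓSpecIso (CommRingCat.of R)).hom := by
    rw [Scheme.germ_stalkClosedPointTo]
    simp [Scheme.Hom.appTop]
  rw [h1, ← Category.assoc b.appTop, ← Scheme.Hom.comp_appTop, hl, Scheme.ΓSpecIso_naturality,
    Iso.inv_hom_id_assoc]

theorem mem_of_near (hb : BlowUp.IsEffCartierIdeal ((centre K).comap b)) [IsProper b]
    (hiso : IsIso (b ∣_ EffCartier.cmpl (centre K))) (hI : I.FG) {L : ℕ} (hL : I ^ L ≤ K)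
    (hK : K = P ⊔ Q) {W : Set X} (hW : IsOpen W)
    (hPW : ∀ x : X, I ≤ (show PrimeSpectrum A from b x).asIdeal → ¬ Gen b K Q x → x ∈ W)
    {A' : Type u} [CommRing A'] [Algebra A A'] (hjac : I.map (algebraMap A A') ≤ Ideal.jacobson ⊥)
    (z : PrimeSpectrum A') (hz : ¬ K ≤ z.asIdeal.comap (algebraMap A A'))
    (hQ : Q.map (algebraMap A A') ≤ z.asIdeal ⊔ (I ^ (2 * L + 1)).map (algebraMap A A'))
    (x : X) (hx : b x = PrimeSpectrum.comap (algebraMap A A') z) : x ∈ W := by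
  have hxI : (show PrimeSpectrum A from b x).asIdeal = z.asIdeal.comap (algebraMap A A') :=
    congrArg PrimeSpectrum.asIdeal hx
  by_cases hI0 : I ≤ z.asIdeal.comap (algebraMap A A')
  · refine hPW x (hxI ▸ hI0) ?_
    rintro ⟨q, hq, hgen⟩
    have hqz : algebraMap A A' q ∈ z.asIdeal := by
      refine (hQ.trans (sup_le le_rfl ?_)) (Ideal.mem_map_of_mem _ hq)
      exact (Ideal.map_mono (Ideal.pow_le_self (by omega))).trans (Ideal.map_le_iff_le_comap.mpr hI0)
    have hqm : gS b x q ∈ maximalIdeal (X.presheaf.stalk x) := by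
      rw [← Ideal.mem_comap, comap_gS, hxI]; exact hqz
    obtain ⟨k, hk, hkz⟩ := SetLike.not_le_iff_exists.mp hz
    have hku : gS b x k ∉ maximalIdeal (X.presheaf.stalk x) := by
      rw [← Ideal.mem_comap, comap_gS, hxI]; exact hkz
    exact hku ((Ideal.span_singleton_le_iff_mem _).mpr hqm (hgen.ge (Ideal.mem_map_of_mem _ hk)))
  · obtain ⟨R, _, _, _, ρ', hker, hρI⟩ := exists_valuation hjac z
    let ρ : A →+* R := ρ'.comp (algebraMap A A')
    have hρ : ∀ a, ρ a = 0 ↔ a ∈ z.asIdeal.comap (algebraMap A A') := fun a => by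
      rw [Ideal.mem_comap, ← hker, RingHom.mem_ker]; rfl
    let F := FractionRing R
    let g : Spec (CommRingCat.of F) ⟶ Spec (CommRingCat.of A) :=
      Spec.map (CommRingCat.ofHom ((algebraMap R F).comp ρ))
    have hgpt : ∀ w, g w = b x := by
      intro w
      rw [hx]
      refine PrimeSpectrum.ext (Ideal.ext fun a => ?_)
      show ((algebraMap R F).comp ρ) a ∈ (show PrimeSpectrum F from w).asIdeal ↔ _
      rw [((show PrimeSpectrum F from w).asIdeal.eq_bot_or_top).resolve_right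
        (show PrimeSpectrum F from w).isPrime.ne_top, Ideal.mem_bot, RingHom.comp_apply,
        map_eq_zero_iff _ (IsFractionRing.injective R F)]
      exact hρ a
    let U := EffCartier.cmpl (centre K)
    have hbx : b x ∈ U := by
      show b x ∉ ((centre K).support : Set (Spec (CommRingCat.of A)))
      rw [centre_support, hx]
      exact hz
    have hr : Set.range g ⊆ Set.range U.ι := by
      rintro _ ⟨w, rfl⟩
      rw [Scheme.Opens.range_ι, hgpt w]
      exact hbx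
    haveI := hiso
    let i₁ : Spec (CommRingCat.of F) ⟶ X :=
      IsOpenImmersion.lift U.ι g hr ≫ inv (b ∣_ U) ≫ (b ⁻¹ᵁ U).ι
    have hi₁ : i₁ ≫ b = g := by
      simp only [i₁, Category.assoc, ← morphismRestrict_ι, IsIso.inv_hom_id_assoc, IsOpenImmersion.lift_fac]
    have hpt : ∀ w, i₁ w = x := by
      intro w
      have h1 : b (i₁ w) = b x := by rw [← Scheme.Hom.comp_apply, hi₁, hgpt w]
      have hxU : x ∈ b ⁻¹ᵁ U := hbx
      have hwU : i₁ w ∈ b ⁻¹ᵁ U := by show b (i₁ w) ∈ U; rw [h1]; exact hbx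
      have h2 : (b ∣_ U) ⟨i₁ w, hwU⟩ = (b ∣_ U) ⟨x, hxU⟩ := Subtype.ext (by
        simp only [morphismRestrict_base_coe]; exact h1)
      exact congrArg Subtype.val ((b ∣_ U).homeomorph.injective h2)
    obtain ⟨hE, -⟩ := (UniversallyClosed.eq_valuativeCriterion ▸ (inferInstance : UniversallyClosed b) :
      (ValuativeCriterion.Existence ⊓ @QuasiCompact) b)
    obtain ⟨l, hl1, hl2⟩ : ∃ l : Spec (CommRingCat.of R) ⟶ X,
        Spec.map (CommRingCat.ofHom (algebraMap R F)) ≫ l = i₁ ∧ l ≫ b = Spec.map (CommRingCat.ofHom ρ) := by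
      obtain ⟨⟨⟨l, hl1, hl2⟩⟩⟩ := hE ⟨R, F, i₁, Spec.map (CommRingCat.ofHom ρ), ⟨by
        rw [hi₁, ← Spec.map_comp]; rfl⟩⟩
      exact ⟨l, hl1, hl2⟩
    obtain ⟨ψ, hψ, hψc⟩ := gS_comp b _ l rfl ρ hl2
    have hgen : Specializes x (l (closedPoint R)) := by
      rw [← hpt default, ← hl1, Scheme.Hom.comp_apply]
      exact ((IsLocalRing.specializes_closedPoint _)).map l.continuous
    refine hgen.mem_open hW (hPW _ ?_ ?_)
    · intro a ha
      rw [← comap_gS, Ideal.mem_comap]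
      have h := hρI (algebraMap A A' a) (Ideal.mem_map_of_mem _ ha)
      by_contra hu
      rw [IsLocalRing.notMem_maximalIdeal] at hu
      refine (IsLocalRing.mem_maximalIdeal _).mp h ?_
      have h2 : ψ (gS b _ a) = ρ' (algebraMap A A' a) := RingHom.congr_fun hψc a
      exact h2 ▸ hu.map ψ
    · rintro ⟨q, hq, hgenq⟩
      obtain ⟨a₀, ha₀, ha₀z⟩ := SetLike.not_le_iff_exists.mp hI0
      refine map_pow_not_le ρ hI (fun a ha => hρI _ (Ideal.mem_map_of_mem _ ha)) ha₀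
        (fun h => ha₀z ((hρ a₀).mp h)) (show L < 2 * L + 1 by omega) ?_
      have h := congrArg (Ideal.map ψ) hgenq
      rw [Ideal.map_map, hψc, Ideal.map_span, Set.image_singleton,
        show ψ (gS b _ q) = ρ q from RingHom.congr_fun hψc q] at h
      refine (Ideal.map_mono hL).trans (h.ge.trans ?_)
      rw [Ideal.span_singleton_le_iff_mem]
      have h' := Ideal.mem_map_of_mem ρ' (hQ (Ideal.mem_map_of_mem _ hq))
      rw [Ideal.map_sup, Ideal.map_map] at h'
      have hz0 : z.asIdeal.map ρ' = ⊥ := by rw [Ideal.map_eq_bot_iff_le_ker, hker]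
      rwa [hz0, bot_sup_eq] at h'

end Side

/-- The image of a clopen subset of the blow-up on the complement of the centre. -/
theorem exists_split (hA : HenselianRing A I) (hI : I.FG) {P Q : Ideal A} (hP : P.FG) (hQ : Q.FG) {L : ℕ}
    (hL : I ^ L ≤ P ⊔ Q) (hPQ : P * Q ≤ I * (P ⊔ Q) ^ 2) :
    ∃ W W' : Set (PrimeSpectrum A), IsOpen W ∧ IsOpen W' ∧ Disjoint W W' ∧
      W ∪ W' = (PrimeSpectrum.zeroLocus ((P ⊔ Q : Ideal A) : Set A))ᶜ ∧
      ∀ (A' : Type u) [CommRing A'] [Algebra A A'], I.map (algebraMap A A') ≤ Ideal.jacobson ⊥ →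
        ∀ z : PrimeSpectrum A', ¬ P ⊔ Q ≤ z.asIdeal.comap (algebraMap A A') →
          (Q.map (algebraMap A A') ≤ z.asIdeal ⊔ (I ^ (2 * L + 1)).map (algebraMap A A') →
            PrimeSpectrum.comap (algebraMap A A') z ∈ W) ∧
          (P.map (algebraMap A A') ≤ z.asIdeal ⊔ (I ^ (2 * L + 1)).map (algebraMap A A') →
            PrimeSpectrum.comap (algebraMap A A') z ∈ W') := by
  obtain ⟨K, hKdef⟩ : ∃ K, K = P ⊔ Q := ⟨_, rfl⟩
  rw [← hKdef] at hL hPQ ⊢
  let b := BlowUpExist.ChartIdx.blowUpHom (centre K)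
  have hb : BlowUp.IsBlowUp b (centre K) := BlowUpExist.ChartIdx.isBlowUp_blowUpHom
  haveI : IsProper b := BlowUpExist.isProper_of_affine
    (by rw [centre_ideal_top, hKdef]; exact Ideal.FG.map (Submodule.FG.sup hP hQ) _) hb
  let U := EffCartier.cmpl (centre K)
  haveI hiso : IsIso (b ∣_ U) := EffCartier.isIso_blowUp_restrict hb
  let X₀ : Set _ := b ⁻¹' PrimeSpectrum.zeroLocus (I : Set A)
  have hX₀ : IsClosed X₀ := (PrimeSpectrum.isClosed_zeroLocus _).preimage b.continuous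
  have hm : ∀ x ∈ X₀, I.map (gS b x) ≤ maximalIdeal _ := fun x hx => by
    rw [Ideal.map_le_iff_le_comap, comap_gS]; exact hx
  obtain ⟨S, hS, hPS, hSQ⟩ := HensProper6.exists_isClopen hA b
    (P := X₀ ∩ {x | Gen b K Q x}ᶜ) (Q := X₀ ∩ {x | Gen b K P x}ᶜ)
    (hX₀.inter (isOpen_gen b hb.1 (hKdef ▸ le_sup_right)).isClosed_compl)
    (hX₀.inter (isOpen_gen b hb.1 (hKdef ▸ le_sup_left)).isClosed_compl)
    (Set.disjoint_left.mpr fun x h h' => (gen_or_gen b hb.1 hKdef x).elim h'.2 h.2)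
    (by
      rw [← Set.inter_union_distrib_left, Set.inter_eq_left]
      intro x hx
      rw [← Set.compl_inter]
      exact fun h => not_gen_and_gen b hb.1 hPQ x (hm x hx) ⟨h.2, h.1⟩)
  have hUset : ∀ y : Spec (CommRingCat.of A), y ∈ U ↔ ¬ K ≤ (show PrimeSpectrum A from y).asIdeal := fun y => by
    show y ∉ ((centre K).support : Set (Spec (CommRingCat.of A))) ↔ _
    rw [centre_support]; rfl
  let e := (b ∣_ U).homeomorph
  let img : Set _ → Set (PrimeSpectrum A) := fun S => Subtype.val '' (e.symm ⁻¹' (Subtype.val ⁻¹' S))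
  have himg : ∀ S, IsOpen S → IsOpen (img S) := fun S hS =>
    U.2.isOpenMap_subtype_val _ ((hS.preimage continuous_subtype_val).preimage e.symm.continuous)
  have hmem : ∀ S x, b x ∈ U → x ∈ S → b x ∈ img S := by
    intro S x hxU hxS
    refine ⟨⟨b x, hxU⟩, ?_, rfl⟩
    show (e.symm ⟨b x, hxU⟩).1 ∈ S
    have : e.symm ⟨b x, hxU⟩ = (⟨x, hxU⟩ : (b ⁻¹ᵁ U : _)) := by
      rw [Homeomorph.symm_apply_eq]
      exact Subtype.ext (by simp [e, morphismRestrict_base_coe])
    rw [this]; exact hxS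
  refine ⟨img S, img Sᶜ, himg S hS.2, himg Sᶜ hS.compl.2, ?_, ?_, ?_⟩
  · refine Set.disjoint_image_of_injective Subtype.val_injective ?_
    exact (disjoint_compl_right.preimage _).preimage _
  · simp only [img, ← Set.image_union, ← Set.preimage_union, Set.union_compl_self, Set.preimage_univ,
      Set.image_univ]
    ext y
    exact ⟨fun ⟨w, hw⟩ => hw ▸ (hUset w.1).mp w.2, fun h => ⟨⟨y, (hUset y).mpr h⟩, rfl⟩⟩
  · intro A' _ _ hjac z hz
    have hzU : (PrimeSpectrum.comap (algebraMap A A') z : Spec (CommRingCat.of A)) ∈ U := (hUset _).mpr hz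
    obtain ⟨w, hw⟩ : ∃ w, (b ∣_ U) w = (⟨_, hzU⟩ : U) := ⟨e.symm ⟨_, hzU⟩, e.apply_symm_apply _⟩
    have hw' : b w.1 = PrimeSpectrum.comap (algebraMap A A') z := by
      have := congrArg Subtype.val hw; simpa [morphismRestrict_base_coe] using this
    constructor
    · intro hQz
      rw [← hw']
      exact hmem S w.1 (hw' ▸ hzU) (mem_of_near b hb.1 hiso hI hL hKdef hS.2
        (fun x hx hg => hPS ⟨hx, hg⟩) hjac z hz hQz w.1 hw')
    · intro hPz
      rw [← hw']
      exact hmem Sᶜ w.1 (hw' ▸ hzU) (mem_of_near b hb.1 hiso hI hL (hKdef.trans (sup_comm _ _)) hS.compl.2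
        (fun x hx hg => Set.disjoint_right.mp hSQ ⟨hx, hg⟩) hjac z hz hPz w.1 hw')

variable {A' : Type u} [CommRing A'] [Algebra A A']

/-- Clopen subsets of the open of the completion come from the base. -/
theorem exists_open_split (hA : HenselianRing A I) (h : Approx (A' := A') I) (hI : I.FG) {U : Set (PrimeSpectrum A)}
    (hU : IsOpen U) (hUc : IsCompact U) (hUI : ∀ x ∉ U, I ≤ x.asIdeal)
    {V V' : Set (PrimeSpectrum A')} (hV : IsOpen V) (hV' : IsOpen V') (hd : Disjoint V V')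
    (hVV : V ∪ V' = PrimeSpectrum.comap (algebraMap A A') ⁻¹' U) :
    ∃ W W' : Set (PrimeSpectrum A), IsOpen W ∧ IsOpen W' ∧ Disjoint W W' ∧ W ∪ W' = U ∧
      V = PrimeSpectrum.comap (algebraMap A A') ⁻¹' W := by
  classical
  let π := PrimeSpectrum.comap (algebraMap A A')
  have hUc' : IsCompact (π ⁻¹' U) := by
    obtain ⟨s, hs⟩ := PrimeSpectrum.isCompact_isOpen_iff.mp ⟨hUc, hU⟩
    refine (PrimeSpectrum.isCompact_isOpen_iff.mpr ⟨s.image (algebraMap A A'), ?_⟩).1
    rw [← hs, Set.preimage_compl, PrimeSpectrum.preimage_comap_zeroLocus]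
    simp
  have hcompl : ∀ {S T : Set (PrimeSpectrum A')}, IsOpen T → Disjoint S T → S ∪ T = π ⁻¹' U → IsCompact S := by
    intro S T hT hd h
    have : S = π ⁻¹' U \ T := by
      rw [← h, Set.union_sdiff_right, hd.sdiff_eq_left]
    rw [this]; exact hUc'.diff hT
  obtain ⟨P₁, hP₁, hVP⟩ := PrimeSpectrum.isCompact_isOpen_iff_ideal.mp ⟨hcompl hV' hd hVV, hV⟩
  obtain ⟨Q₁, hQ₁, hVQ⟩ := PrimeSpectrum.isCompact_isOpen_iff_ideal.mp
    ⟨hcompl hV hd.symm (by rw [Set.union_comm]; exact hVV), hV'⟩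
  have hnil : P₁ * Q₁ ≤ nilradical A' := by
    rw [nilradical_eq_sInf]
    refine le_sInf fun p hp => ?_
    haveI : p.IsPrime := hp
    by_contra hn
    have h1 : ¬ P₁ ≤ p := fun h => hn (Ideal.mul_le_left.trans h)
    have h2 : ¬ Q₁ ≤ p := fun h => hn (Ideal.mul_le_right.trans h)
    exact Set.disjoint_left.mp hd (show (⟨p, hp⟩ : PrimeSpectrum A') ∈ V from hVP ▸ h1)
      (show (⟨p, hp⟩ : PrimeSpectrum A') ∈ V' from hVQ ▸ h2)
  obtain ⟨n, hn⟩ := Ideal.exists_pow_le_of_le_radical_of_fg (show P₁ * Q₁ ≤ (⊥ : Ideal A').radical from hnil)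
    (hP₁.mul hQ₁)
  have hpow : ∀ (J : Ideal A') (p : PrimeSpectrum A'), J ^ (n + 1) ≤ p.asIdeal ↔ J ≤ p.asIdeal := fun J p =>
    ⟨fun h => p.isPrime.le_of_pow_le h, fun h => (Ideal.pow_le_self (by omega)).trans h⟩
  let P := P₁ ^ (n + 1)
  let Q := Q₁ ^ (n + 1)
  have hPQ : P * Q = ⊥ := by
    rw [← mul_pow]; exact le_bot_iff.mp ((Ideal.pow_le_pow_right (by omega)).trans hn)
  have hmem : ∀ p, p ∈ π ⁻¹' U ↔ ¬ P ⊔ Q ≤ p.asIdeal := fun p => by
    rw [← hVV, hVP.symm, hVQ.symm, sup_le_iff, hpow, hpow, not_and_or]; rfl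
  obtain ⟨L, hL⟩ := Ideal.exists_pow_le_of_le_radical_of_fg (I := I.map (algebraMap A A')) (J := P ⊔ Q) (by
    rw [Ideal.radical_eq_sInf]
    refine le_sInf fun p ⟨hp, hp'⟩ => ?_
    by_contra hn'
    refine (hmem ⟨p, hp'⟩).mp ?_ hp
    by_contra hU'
    exact hn' (Ideal.map_le_iff_le_comap.mpr (hUI _ hU'))) (hI.map _)
  rw [← Ideal.map_pow] at hL
  obtain ⟨P', Q', hP'f, hQ'f, hK, hPQ', hP1, hQ1, hP2, hQ2⟩ :=
    h.exists_approx hI hA.jac P Q (hP₁.pow) (hQ₁.pow) hPQ L hL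
  obtain ⟨W, W', hW, hW', hdW, hWW, hnear⟩ := exists_split hA hI hP'f hQ'f hK hPQ'
  have hUK : U = (PrimeSpectrum.zeroLocus ((P' ⊔ Q' : Ideal A) : Set A))ᶜ := by
    ext x
    show x ∈ U ↔ ¬ P' ⊔ Q' ≤ x.asIdeal
    by_cases hx : I ≤ x.asIdeal
    · obtain ⟨x', hx', hx'I⟩ := h.exists_prime x hx
      have hle : (I ^ (2 * L + 1)).map (algebraMap A A') ≤ x'.asIdeal :=
        (Ideal.map_mono (Ideal.pow_le_self (by omega))).trans hx'I
      rw [← hx', show π x' ∈ U ↔ x' ∈ π ⁻¹' U from Iff.rfl, hmem]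
      refine not_congr ⟨fun hle' => ?_, fun hle' => ?_⟩
      · show P' ⊔ Q' ≤ x'.asIdeal.comap (algebraMap A A')
        rw [← Ideal.map_le_iff_le_comap, Ideal.map_sup]
        exact sup_le (hP1.trans (sup_le (le_sup_left.trans hle') hle))
          (hQ1.trans (sup_le (le_sup_right.trans hle') hle))
      · have h' : (P' ⊔ Q').map (algebraMap A A') ≤ x'.asIdeal := Ideal.map_le_iff_le_comap.mpr hle'
        rw [Ideal.map_sup] at h'
        exact sup_le (hP2.trans (sup_le (le_sup_left.trans h') hle))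
          (hQ2.trans (sup_le (le_sup_right.trans h') hle))
    · exact iff_of_true (by_contra fun hxU => hx (hUI x hxU))
        fun hle => hx (x.isPrime.le_of_pow_le (hK.trans hle))
  rw [← hUK] at hWW
  refine ⟨W, W', hW, hW', hdW, hWW, ?_⟩
  have hkey : ∀ z : PrimeSpectrum A', (z ∈ V → π z ∈ W) ∧ (z ∈ V' → π z ∈ W') := by
    intro z
    have hz : z ∈ π ⁻¹' U → ¬ P' ⊔ Q' ≤ z.asIdeal.comap (algebraMap A A') := fun hzU => by
      have : π z ∈ (PrimeSpectrum.zeroLocus ((P' ⊔ Q' : Ideal A) : Set A))ᶜ := hUK ▸ hzU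
      exact this
    constructor
    · intro hzV
      refine (hnear A' h.jac z (hz (hVV ▸ Or.inl hzV))).1 (hQ1.trans (sup_le_sup_right ?_ _))
      rw [hpow]; by_contra hn'
      exact Set.disjoint_left.mp hd hzV (hVQ ▸ hn')
    · intro hzV
      refine (hnear A' h.jac z (hz (hVV ▸ Or.inr hzV))).2 (hP1.trans (sup_le_sup_right ?_ _))
      rw [hpow]; by_contra hn'
      exact Set.disjoint_right.mp hd hzV (hVP ▸ hn')
  ext z
  refine ⟨fun hzV => (hkey z).1 hzV, fun hzW => ?_⟩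
  have hzU : z ∈ π ⁻¹' U := by show π z ∈ U; rw [← hWW]; exact Or.inl hzW
  rw [← hVV] at hzU
  exact hzU.resolve_right fun h' => Set.disjoint_left.mp hdW hzW ((hkey z).2 h')

/-- A nonempty clopen subset of the open has a point from the completion. -/
theorem eq_empty_of_preimage (hjac : I ≤ Ideal.jacobson ⊥) (h : Approx (A' := A') I) (hI : I.FG)
    {U W : Set (PrimeSpectrum A)} (hUI : ∀ x ∉ U, I ≤ x.asIdeal) 
    (hclosed : ∀ x ∈ W, ∀ y ∈ U, x ⤳ y → y ∈ W)
    (hempty : PrimeSpectrum.comap (algebraMap A A') ⁻¹' W = ∅) : W = ∅ := by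
  refine Set.eq_empty_iff_forall_notMem.mpr fun x hx => ?_
  by_cases hxI : I ≤ x.asIdeal
  · obtain ⟨x', hx', -⟩ := h.exists_prime x hxI
    exact Set.eq_empty_iff_forall_notMem.mp hempty x' (show _ ∈ W from hx' ▸ hx)
  obtain ⟨R, _, _, _, ρ, hker, hρI⟩ := exists_valuation hjac x
  obtain ⟨a₀, ha₀, ha₀x⟩ := SetLike.not_le_iff_exists.mp hxI
  have hρa : ρ a₀ ≠ 0 := fun h0 => ha₀x (hker ▸ (RingHom.mem_ker.mpr h0))
  have hne : ¬ I.map (algebraMap A A') ≤ (x.asIdeal.map (algebraMap A A')).radical := by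
    intro hle
    obtain ⟨k, hk⟩ := Ideal.exists_pow_le_of_le_radical_of_fg hle (hI.map _)
    rw [← Ideal.map_pow] at hk
    refine map_pow_not_le ρ hI hρI ha₀ hρa (Nat.lt_succ_self k) ?_
    have h1 : I ^ k ≤ x.asIdeal ⊔ I ^ (k + 1) := by
      refine le_trans ?_ (h.comap_map_le (k + 1) le_sup_right)
      rw [← Ideal.map_le_iff_le_comap, Ideal.map_sup]
      exact hk.trans le_sup_left
    refine (Ideal.map_mono h1).trans ?_
    rw [Ideal.map_sup, (Ideal.map_eq_bot_iff_le_ker _).mpr hker.ge, bot_sup_eq]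
  rw [Ideal.radical_eq_sInf, le_sInf_iff] at hne
  push Not at hne
  obtain ⟨q, ⟨hxq, hq⟩, hIq⟩ := hne
  let q' : PrimeSpectrum A' := ⟨q, hq⟩
  have hqU : PrimeSpectrum.comap (algebraMap A A') q' ∈ U := by
    by_contra hn
    exact hIq (Ideal.map_le_iff_le_comap.mpr (hUI _ hn))
  exact Set.eq_empty_iff_forall_notMem.mp hempty q' (hclosed x hx _ hqU
    ((PrimeSpectrum.le_iff_specializes _ _).mp (Ideal.map_le_iff_le_comap.mp hxq)))

end Groth.Agent.GabberRig6
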