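import Groth.Agent.Lib.GabberRig6.Alg
import Groth.Agent.Lib.ShFlat24.PairModel
import Groth.Agent.Lib.AlgSpEt14.HensPt
import Groth.Agent.Lib.Hens.Local
import Mathlib

/-! # Strict henselizations along an approximation -/

set_option autoImplicit false
universe u
set_option backward.isDefEq.respectTransparency.types false
set_option linter.style.haveILetI false

open IsLocalRing Groth.Agent.Hens

namespace Groth.Agent.GabberRig6

variable {A A' : Type u} [CommRing A] [CommRing A'] [Algebra A A'] {I : Ideal A}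
  {Ω : Type u} [Field Ω] [IsSepClosed Ω] [Algebra A Ω] [Algebra A' Ω] [IsScalarTower A A' Ω]

omit [IsSepClosed Ω] in
theorem mem_range_res {R' : Type u} [CommRing R'] [Algebra R' Ω] {κ : Type u} [Field κ] [IsSepClosed κ]
    [Algebra κ Ω] [Algebra R' κ] [IsScalarTower R' κ Ω] (w : Hs R' Ω) :
    (Hs.res w : Ω) ∈ (algebraMap κ Ω).range := by
  obtain ⟨i, y, rfl⟩ := Hs.exists_of w
  have h1 : Algebra.FormallyUnramified R' i.G := inferInstance
  have h2 : Algebra.EssFiniteType R' i.G := inferInstance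
  have hs : IsSeparable κ (i.res y : Ω) :=
    @HensPt14.isSeparable_apply R' κ i.G Ω _ _ _ _ _ h1 h2 _ _ _ _ i.res y
  rw [Hs.res_of]
  exact minpoly.mem_range_of_degree_eq_one κ _
    (IsSepClosed.degree_eq_one_of_irreducible κ (minpoly.irreducible hs.isIntegral) hs)

theorem exists_res (h : Approx (A' := A') I) (hI0 : ∀ a ∈ I, algebraMap A Ω a = 0) :
    ∀ w : Hs A' Ω, ∃ x : Hs A Ω, (Hs.res x : Ω) = Hs.res w := by
  intro w
  let κ := ResidueField (Hs A Ω)
  haveI : IsSepClosed κ := by
    let q : Ideal A := RingHom.ker (algebraMap A Ω)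
    haveI : q.IsPrime := RingHom.ker_isPrime _
    obtain ⟨_, _, _, hsh⟩ := HensPt14.exists_isStrictHenselization (R := A) (K := Ω) q (fun r => Iff.rfl)
      (Localization.AtPrime q)
    haveI := hsh
    exact hsh.isSepClosure.sep_closed
  letI : Algebra κ Ω := (HensPt14.resK (R := A) (K := Ω)).toAlgebra
  choose f hf using h.lift 1
  have key : ∀ (x : A') (a : A), x - algebraMap A A' a ∈ (I ^ 1).map (algebraMap A A') →
      algebraMap A Ω a = algebraMap A' Ω x := by
    intro x a ha
    have h0 : (I ^ 1).map (algebraMap A A') ≤ RingHom.ker (algebraMap A' Ω) := by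
      rw [pow_one, Ideal.map_le_iff_le_comap]
      intro b hb
      show algebraMap A' Ω (algebraMap A A' b) = 0
      rw [← IsScalarTower.algebraMap_apply]
      exact hI0 b hb
    have := h0 ha
    rw [RingHom.mem_ker, map_sub, ← IsScalarTower.algebraMap_apply, sub_eq_zero] at this
    exact this.symm
  let ρ : A' →+* κ :=
    { toFun := fun x => residue _ (algebraMap A (Hs A Ω) (f x))
      map_one' := (HensPt14.resK (R := A) (K := Ω)).injective (by
        rw [HensPt14.resK_residue, AlgHom.commutes, key 1 (f 1) (hf 1), map_one, map_one])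
      map_mul' := fun x y => (HensPt14.resK (R := A) (K := Ω)).injective (by
        simp only [map_mul, HensPt14.resK_residue, AlgHom.commutes, key _ _ (hf _)])
      map_zero' := (HensPt14.resK (R := A) (K := Ω)).injective (by
        rw [HensPt14.resK_residue, AlgHom.commutes, key 0 (f 0) (hf 0), map_zero, map_zero])
      map_add' := fun x y => (HensPt14.resK (R := A) (K := Ω)).injective (by
        simp only [map_add, HensPt14.resK_residue, AlgHom.commutes, key _ _ (hf _)]) }
  have hρ : ∀ x, HensPt14.resK (R := A) (K := Ω) (ρ x) = algebraMap A' Ω x := fun x =>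
    (HensPt14.resK_residue (algebraMap A (Hs A Ω) (f x))).trans ((AlgHom.commutes _ _).trans (key x (f x) (hf x)))
  obtain ⟨z, hz⟩ := @mem_range_res Ω _ A' _ _ κ _ ‹IsSepClosed κ› (HensPt14.resK (R := A) (K := Ω)).toAlgebra ρ.toAlgebra
    (@IsScalarTower.of_algebraMap_eq A' κ Ω _ _ _ ρ.toAlgebra (HensPt14.resK (R := A) (K := Ω)).toAlgebra _ fun x => (hρ x).symm) w
  obtain ⟨x, hx⟩ := residue_surjective z
  exact ⟨x, (HensPt14.resK_residue x).symm.trans ((congrArg (HensPt14.resK (R := A) (K := Ω)) hx).trans hz)⟩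

set_option maxHeartbeats 1600000 in
theorem exists_retr (h : Approx (A' := A') I) (hI0 : ∀ a ∈ I, algebraMap A Ω a = 0)
    (ψ : Hs A Ω →+* Hs A' Ω) (hψA : ∀ r, ψ (algebraMap A _ r) = algebraMap A' _ (algebraMap A A' r))
    (hψres : ∀ x, (Hs.res (ψ x) : Ω) = Hs.res x) (m : ℕ) (hm : m ≠ 0) :
    ∃ χ : Hs A' Ω →+* Hs A Ω ⧸ (I.map (algebraMap A (Hs A Ω))) ^ m,
      χ.comp ψ = Ideal.Quotient.mk _ ∧
      ∀ w, ∃ x, χ w = Ideal.Quotient.mk _ x ∧ w - ψ x ∈ ((I.map (algebraMap A (Hs A Ω))) ^ m).map ψ := by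
  let J := I.map (algebraMap A (Hs A Ω))
  have hres := exists_res (Ω := Ω) h hI0
  have hJ : J ≤ maximalIdeal (Hs A Ω) := Ideal.map_le_iff_le_comap.mpr fun a ha => by
    rw [Ideal.mem_comap, ← Hs.res_eq_zero_iff, AlgHom.commutes]
    exact hI0 a ha
  have hmap : ∀ n : ℕ, (J ^ n).map ψ = (I ^ n).map ((algebraMap A' (Hs A' Ω)).comp (algebraMap A A')) := fun n => by
    rw [← Ideal.map_pow, Ideal.map_map]
    exact congrArg ((I ^ n).map ·) (RingHom.ext hψA)
  let T := Hs A Ω ⧸ J ^ m
  have hJm : J ^ m ≤ maximalIdeal (Hs A Ω) := (Ideal.pow_le_self hm).trans hJ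
  haveI : Nontrivial T := Ideal.Quotient.nontrivial_iff.mpr fun e =>
    (IsLocalRing.maximalIdeal.isMaximal _).ne_top (top_le_iff.mp (e ▸ hJm))
  haveI : IsLocalRing T := IsLocalRing.of_surjective' _ Ideal.Quotient.mk_surjective
  haveI : HenselianLocalRing T := Hens.henselianLocalRing_of_isIntegral (Hs A Ω) T
  let mkA : A →+* T := (Ideal.Quotient.mk (J ^ m)).comp (algebraMap A (Hs A Ω))
  have hmk0 : ∀ a ∈ I ^ m, mkA a = 0 := fun a ha => by
    show Ideal.Quotient.mk _ (algebraMap A (Hs A Ω) a) = 0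
    rw [Ideal.Quotient.eq_zero_iff_mem, ← Ideal.map_pow]
    exact Ideal.mem_map_of_mem _ ha
  choose f hf using h.lift m
  have key : ∀ (x : A') (a : A), x - algebraMap A A' a ∈ (I ^ m).map (algebraMap A A') → mkA (f x) = mkA a := by
    intro x a ha
    rw [← sub_eq_zero, ← map_sub]
    refine hmk0 _ (h.contract m _ ?_)
    rw [map_sub, show algebraMap A A' (f x) - algebraMap A A' a =
      (x - algebraMap A A' a) - (x - algebraMap A A' (f x)) by ring]
    exact Ideal.sub_mem _ ha (hf x)
  let ρ : A' →+* T :=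
    { toFun := fun x => mkA (f x)
      map_one' := (key 1 1 (by simp)).trans mkA.map_one
      map_mul' := fun x y => (key (x * y) (f x * f y) (by
        rw [map_mul, show x * y - algebraMap A A' (f x) * algebraMap A A' (f y) =
          x * (y - algebraMap A A' (f y)) + (x - algebraMap A A' (f x)) * algebraMap A A' (f y) by ring]
        exact Ideal.add_mem _ (Ideal.mul_mem_left _ _ (hf y)) (Ideal.mul_mem_right _ _ (hf x)))).trans (map_mul _ _ _)
      map_zero' := (key 0 0 (by simp)).trans mkA.map_zero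
      map_add' := fun x y => (key (x + y) (f x + f y) (by
        rw [map_add, add_sub_add_comm]; exact Ideal.add_mem _ (hf x) (hf y))).trans (map_add _ _ _) }
  have hρA : ∀ a, ρ (algebraMap A A' a) = mkA a := fun a => key _ a (by simp)
  letI : Algebra A' T := ρ.toAlgebra
  -- the residue map
  let mkT : Hs A Ω →+* T := Ideal.Quotient.mk (J ^ m)
  haveI : IsLocalHom mkT := IsLocalHom.of_surjective _ Ideal.Quotient.mk_surjective
  let e : ResidueField (Hs A Ω) →+* ResidueField T := ResidueField.map mkT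
  let rA : ResidueField (Hs A Ω) →+* Ω := HensPt14.resK
  choose g hg using fun z : ResidueField (Hs A' Ω) => (by
    obtain ⟨w, rfl⟩ := residue_surjective z
    obtain ⟨x, hx⟩ := hres w
    exact ⟨residue _ x, hx⟩ : ∃ x, rA x = HensPt14.resK (R := A') (K := Ω) z)
  let gh : ResidueField (Hs A' Ω) →+* ResidueField (Hs A Ω) :=
    { toFun := g
      map_one' := rA.injective (by rw [hg, map_one, map_one])
      map_mul' := fun a b => rA.injective (by rw [hg, map_mul, map_mul, hg, hg])
      map_zero' := rA.injective (by rw [hg, map_zero, map_zero])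
      map_add' := fun a b => rA.injective (by rw [hg, map_add, map_add, hg, hg]) }
  have hgh : ∀ x : Hs A Ω, gh (residue _ (ψ x)) = residue _ x := fun x => rA.injective (by
    show rA (g _) = _
    rw [hg, HensPt14.resK_residue, hψres]; rfl)
  let τ : ResidueField (Hs A' Ω) →ₐ[A'] ResidueField T :=
    { e.comp gh with
      commutes' := fun x => by
        show e (gh (residue _ (algebraMap A' (Hs A' Ω) x))) = residue T (ρ x)
        have h1 : gh (residue _ (algebraMap A' (Hs A' Ω) x)) = residue _ (algebraMap A (Hs A Ω) (f x)) := by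
          refine rA.injective ?_
          show rA (g _) = _
          rw [hg, HensPt14.resK_residue, AlgHom.commutes]
          show _ = (Hs.res (algebraMap A (Hs A Ω) (f x)) : Ω)
          rw [AlgHom.commutes, IsScalarTower.algebraMap_apply A A' Ω, eq_comm, ← sub_eq_zero, ← map_sub]
          have h0 : (I ^ m).map (algebraMap A A') ≤ RingHom.ker (algebraMap A' Ω) :=
            (Ideal.map_mono (Ideal.pow_le_self hm)).trans (Ideal.map_le_iff_le_comap.mpr fun b hb => by
              show algebraMap A' Ω (algebraMap A A' b) = 0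
              rw [← IsScalarTower.algebraMap_apply]; exact hI0 b hb)
          rw [← neg_sub, map_neg, neg_eq_zero]
          exact h0 (hf x)
        rw [h1]
        exact ResidueField.map_residue _ _ }
  obtain ⟨χ, hχ, -⟩ := HensPt14.existsUnique_lift T τ
  letI : Algebra A T := mkA.toAlgebra
  let τA : ResidueField (Hs A Ω) →ₐ[A] ResidueField T :=
    { e with commutes' := fun a => ResidueField.map_residue mkT (algebraMap A (Hs A Ω) a) }
  obtain ⟨g₀, -, huniq⟩ := HensPt14.existsUnique_lift T τA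
  let c₁ : Hs A Ω →ₐ[A] T :=
    { χ.toRingHom.comp ψ with
      commutes' := fun a => by
        show χ (ψ (algebraMap A (Hs A Ω) a)) = mkA a
        rw [hψA, AlgHom.commutes]; exact hρA a }
  let c₂ : Hs A Ω →ₐ[A] T := { mkT with commutes' := fun _ => rfl }
  have hc₁ : c₁ = g₀ := huniq c₁ fun x => by
    show residue T (χ (ψ x)) = _
    rw [hχ]
    show e (gh (residue _ (ψ x))) = e (residue _ x)
    rw [hgh]
  have hc₂ : c₂ = g₀ := huniq c₂ fun x => (ResidueField.map_residue mkT x).symm
  have hcomp : χ.toRingHom.comp ψ = Ideal.Quotient.mk (J ^ m) := RingHom.ext fun x =>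
    DFunLike.congr_fun (hc₁.trans hc₂.symm) x
  -- the other composite
  let K := (J ^ m).map ψ
  let T' := Hs A' Ω ⧸ K
  have hK : K ≤ maximalIdeal (Hs A' Ω) := Ideal.map_le_iff_le_comap.mpr fun a ha => by
    rw [Ideal.mem_comap, ← Hs.res_eq_zero_iff, hψres, Hs.res_eq_zero_iff]; exact hJm ha
  haveI : Nontrivial T' := Ideal.Quotient.nontrivial_iff.mpr fun e =>
    (IsLocalRing.maximalIdeal.isMaximal _).ne_top (top_le_iff.mp (e ▸ hK))
  haveI : IsLocalRing T' := IsLocalRing.of_surjective' _ Ideal.Quotient.mk_surjective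
  haveI : HenselianLocalRing T' := Hens.henselianLocalRing_of_isIntegral (Hs A' Ω) T'
  let mk' : Hs A' Ω →+* T' := Ideal.Quotient.mk K
  haveI : IsLocalHom mk' := IsLocalHom.of_surjective _ Ideal.Quotient.mk_surjective
  let ψb : T →+* T' := Ideal.quotientMap K ψ Ideal.le_comap_map
  let τ' : ResidueField (Hs A' Ω) →ₐ[A'] ResidueField T' :=
    { ResidueField.map mk' with commutes' := fun x => ResidueField.map_residue mk' (algebraMap A' (Hs A' Ω) x) }
  obtain ⟨g₁, -, huniq'⟩ := HensPt14.existsUnique_lift T' τ'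
  let d₁ : Hs A' Ω →ₐ[A'] T' :=
    { ψb.comp χ.toRingHom with
      commutes' := fun x => by
        show ψb (χ (algebraMap A' (Hs A' Ω) x)) = Ideal.Quotient.mk K (algebraMap A' (Hs A' Ω) x)
        rw [AlgHom.commutes]
        show Ideal.Quotient.mk K (ψ (algebraMap A (Hs A Ω) (f x))) = _
        rw [hψA, Ideal.Quotient.mk_eq_mk_iff_sub_mem, ← map_sub]
        show _ ∈ (J ^ m).map ψ
        rw [hmap, ← Ideal.map_map, ← neg_sub, map_neg]
        exact neg_mem (Ideal.mem_map_of_mem _ (hf x)) }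
  let d₂ : Hs A' Ω →ₐ[A'] T' := { mk' with commutes' := fun _ => rfl }
  have hd₂ : d₂ = g₁ := huniq' d₂ fun x => (ResidueField.map_residue mk' x).symm
  have hd₁ : d₁ = g₁ := huniq' d₁ fun w => by
    obtain ⟨x, hx⟩ := hres w
    obtain ⟨x', hx'⟩ := Ideal.Quotient.mk_surjective (χ w)
    show residue T' (ψb (χ w)) = residue T' (mk' w)
    rw [← hx', show ψb (Ideal.Quotient.mk (J ^ m) x') = mk' (ψ x') from rfl, ← sub_eq_zero, ← map_sub, ← map_sub,
      residue_eq_zero_iff, IsLocalRing.mem_maximalIdeal, map_mem_nonunits_iff mk', mem_nonunits_iff, Hs.isUnit_iff,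
      not_not, map_sub, hψres, sub_eq_zero, ← hx]
    have h1 : residue T (χ w) = e (gh (residue _ w)) := hχ w
    rw [← hx'] at h1
    have h2 : e (residue _ x') = residue T (Ideal.Quotient.mk (J ^ m) x') := ResidueField.map_residue mkT x'
    have h3 : residue _ x' = gh (residue _ w) := e.injective (h2.trans h1)
    have h4 := congrArg rA h3
    rw [show rA (gh (residue _ w)) = HensPt14.resK (residue _ w) from hg _] at h4
    rw [hx]
    exact h4
  refine ⟨χ.toRingHom, hcomp, fun w => ?_⟩
  obtain ⟨x, hx⟩ := Ideal.Quotient.mk_surjective (χ w)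
  refine ⟨x, hx.symm, ?_⟩
  have h1 : ψb (χ w) = mk' w := DFunLike.congr_fun (hd₁.trans hd₂.symm) w
  rw [← hx] at h1
  exact (Ideal.Quotient.mk_eq_mk_iff_sub_mem _ _).mp h1.symm

/-- The map of strict henselizations at a geometric point of `V(I)` is again an approximation. -/
theorem exists_hs_approx (h : Approx (A' := A') I) (hI0 : ∀ a ∈ I, algebraMap A Ω a = 0) :
    ∃ ψ : Hs A Ω →+* Hs A' Ω, (∀ r, ψ (algebraMap A _ r) = algebraMap A' _ (algebraMap A A' r)) ∧
      (∀ x, (Hs.res (ψ x) : Ω) = Hs.res x) ∧ HenselianRing (Hs A Ω) (I.map (algebraMap A (Hs A Ω))) ∧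
      @Approx (Hs A Ω) (Hs A' Ω) _ _ ψ.toAlgebra (I.map (algebraMap A (Hs A Ω))) := by
  obtain ⟨ψ, hψA, hψres⟩ := ShFlat24.exists_hsMap (R := A) (R' := A') (Ω := Ω)
  let J := I.map (algebraMap A (Hs A Ω))
  have hJ : J ≤ maximalIdeal (Hs A Ω) := Ideal.map_le_iff_le_comap.mpr fun a ha => by
    rw [Ideal.mem_comap, ← Hs.res_eq_zero_iff, AlgHom.commutes]
    exact hI0 a ha
  have hA : HenselianRing (Hs A Ω) J := Hens.henselianRing_of_le (Hens.henselianRing_maximalIdeal _) hJ
  refine ⟨ψ, hψA, hψres, hA, ?_⟩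
  letI : Algebra (Hs A Ω) (Hs A' Ω) := ψ.toAlgebra
  refine ⟨?_, ?_, ?_⟩
  · refine le_trans ?_ (IsLocalRing.maximalIdeal_le_jacobson ⊥)
    refine Ideal.map_le_iff_le_comap.mpr fun a ha => ?_
    rw [Ideal.mem_comap, ← Hs.res_eq_zero_iff]
    show (Hs.res (ψ a) : Ω) = 0
    rw [hψres, Hs.res_eq_zero_iff]
    exact hJ ha
  -- a retraction modulo powers
  · intro m w
    rcases eq_or_ne m 0 with rfl | hm
    · exact ⟨0, by rw [pow_zero, Ideal.one_eq_top, Ideal.map_top]; exact Submodule.mem_top⟩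
    · obtain ⟨χ, -, hχ⟩ := exists_retr h hI0 ψ hψA hψres m hm
      obtain ⟨x, -, hx⟩ := hχ w
      exact ⟨x, hx⟩
  · intro m x hx
    rcases eq_or_ne m 0 with rfl | hm
    · simp
    · obtain ⟨χ, hχ, -⟩ := exists_retr h hI0 ψ hψA hψres m hm
      have h1 := Ideal.mem_map_of_mem χ hx
      rw [show algebraMap (Hs A Ω) (Hs A' Ω) = ψ from rfl, Ideal.map_map, hχ, Ideal.map_quotient_self,
        Ideal.mem_bot, ← RingHom.comp_apply, hχ, Ideal.Quotient.eq_zero_iff_mem] at h1
      exact h1

end Groth.Agent.GabberRig6
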