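import Groth.Agent.Lib.GabberRig6.H0
import Groth.Agent.Lib.EtSets24.ConnDescent
import Mathlib

/-! # Pulling back global sections along composites and isomorphisms -/

set_option autoImplicit false
universe u
set_option backward.isDefEq.respectTransparency.types false

open CategoryTheory CategoryTheory.Limits AlgebraicGeometry Opposite

namespace Groth.Agent.GabberRig6

open Groth.Agent.EtStalk
open Groth.Agent.SetsStage24 (val val_congr' ext_val at_toComp toComp fromComp toComp_fromComp At)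

variable {Z Y X : Scheme.{u}}

theorem val_congr_hom {F : EtDesc.Sh X} {Ω : Type u} [Field Ω] [IsSepClosed Ω] {ξ : Spec (CommRingCat.of Ω) ⟶ X}
    {V : X.Etale} {n n' : Spec (CommRingCat.of Ω) ⟶ V.left} (e : n = n') (h : n ≫ V.hom = ξ) (h' : n' ≫ V.hom = ξ)
    (s : F.obj.obj (op V)) : val F ξ n h s = val F ξ n' h' s := by
  subst e; rfl

set_option maxHeartbeats 800000 in
theorem val_secPull_comp (f : Z ⟶ Y) (g : Y ⟶ X) (F : EtDesc.Sh X) (s : EtDesc.sect F (EtCoh.top X))
    {Ω : Type u} [Field Ω] [IsSepClosed Ω] (a : Spec (CommRingCat.of Ω) ⟶ Z) :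
    val ((EtDesc.pullSh (f ≫ g)).obj F) (V := EtCoh.top Z) a a (Category.comp_id a)
      (toComp F f g (EtDesc.secPull f _ (EtDesc.secPull g F s))) =
    val ((EtDesc.pullSh (f ≫ g)).obj F) (V := EtCoh.top Z) a a (Category.comp_id a) (EtDesc.secPull (f ≫ g) F s) := by
  have h0 : val ((EtDesc.pullSh g).obj F) (a ≫ f) (a ≫ f) (Category.comp_id _) (EtDesc.secPull g F s) =
      Sets.stalkPull g (a ≫ f) F (val F ((a ≫ f) ≫ g) ((a ≫ f) ≫ g) (Category.comp_id _) s) :=
    at_secPull (g := g) F s (a ≫ f)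
  have h1 : val ((EtDesc.pullSh f).obj ((EtDesc.pullSh g).obj F)) a a (Category.comp_id a)
      (EtDesc.secPull f _ (EtDesc.secPull g F s)) = Sets.stalkPull f a _
      (Sets.stalkPull g (a ≫ f) F (val F ((a ≫ f) ≫ g) ((a ≫ f) ≫ g) (Category.comp_id _) s)) :=
    (at_secPull (g := f) ((EtDesc.pullSh g).obj F) (EtDesc.secPull g F s) a).trans (congrArg _ h0)
  have h2 := at_toComp (ζ := a) (V := EtCoh.top Z) (N := EtCoh.top X) F f g
    (EtDesc.secPull f _ (EtDesc.secPull g F s)) a (Category.comp_id a) ((a ≫ f) ≫ g) (Category.comp_id _) s h1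
  have h3 := at_secPull (g := f ≫ g) F s a
  refine Eq.trans h2 (Eq.trans (congrArg _ ?_) h3.symm)
  exact val_congr_hom (Category.assoc _ _ _) _ _ s

theorem secPull_comp (f : Z ⟶ Y) (g : Y ⟶ X) (F : EtDesc.Sh X) (s : EtDesc.sect F (EtCoh.top X)) :
    toComp F f g (EtDesc.secPull f _ (EtDesc.secPull g F s)) = EtDesc.secPull (f ≫ g) F s := by
  refine ext_val fun Ω _ _ ζ a ha => ?_
  obtain rfl : a = ζ := (Category.comp_id a).symm.trans ha
  exact val_secPull_comp f g F s a

theorem bijective_secPull_comp (f : Z ⟶ Y) (g : Y ⟶ X)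
    (hf : ∀ G : EtDesc.Sh Y, Function.Bijective (EtDesc.secPull f G))
    (hg : ∀ G : EtDesc.Sh X, Function.Bijective (EtDesc.secPull g G)) (F : EtDesc.Sh X) :
    Function.Bijective (EtDesc.secPull (f ≫ g) F) := by
  haveI : IsIso (((EtDesc.pullCompSh f g).inv.app F).hom.app (op (EtCoh.top Z))) :=
    (((sheafToPresheaf _ _).mapIso ((EtDesc.pullCompSh f g).app F).symm).app (op (EtCoh.top Z))).isIso_hom
  have ht : Function.Bijective (fun τ => toComp (V := EtCoh.top Z) F f g τ) :=
    ConcreteCategory.bijective_of_isIso (((EtDesc.pullCompSh f g).inv.app F).hom.app (op (EtCoh.top Z)))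
  have he : EtDesc.secPull (f ≫ g) F =
      (fun τ => toComp (V := EtCoh.top Z) F f g τ) ∘ EtDesc.secPull f _ ∘ EtDesc.secPull g F :=
    funext fun s => (secPull_comp f g F s).symm
  rw [he]
  exact ht.comp ((hf _).comp (hg F))

theorem bijective_secPull_of_isIso (e : Z ⟶ Y) [IsIso e] (F : EtDesc.Sh Y) :
    Function.Bijective (EtDesc.secPull e F) := by
  haveI : GeometricallyConnected e := ⟨fun K _ y W fst snd h => by
    haveI : IsIso snd := h.isIso_snd_of_isIso
    exact (inv snd).surjective.connectedSpace (inv snd).continuous⟩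
  have hs : EtDesc.IsUnivSubmersive e := fun W t => by
    haveI : IsIso (pullback.snd e t) := inferInstance
    exact ⟨(pullback.snd e t).surjective, (pullback.snd e t).homeomorph.isQuotientMap⟩
  exact ((((EtDesc.pullSh e).obj F).obj.mapIso (EtCore.bcTopIso e).symm.op).toEquiv.bijective).comp
    (EtSets24.unitAt_bijective e F hs (EtCoh.top Y))

end Groth.Agent.GabberRig6
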