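import Groth.Agent.Lib.EtSets24.EtaleLocal
import Groth.Agent.Lib.EtSets24.BaseChange
import Groth.Agent.Lib.SetsGabber24.ProperBC
import Groth.Agent.Lib.GabberRig6.Cover
import Groth.Agent.Lib.GabberRig6.Pair
import Groth.Agent.Lib.GabberRig6.SecComp
import Mathlib

/-! # Direct images along the open immersion commute with the pull back along an approximation -/

set_option autoImplicit false
universe u
set_option backward.isDefEq.respectTransparency.types false
set_option linter.style.haveILetI false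

open CategoryTheory CategoryTheory.Limits AlgebraicGeometry Opposite IsLocalRing Groth.Agent.Hens

namespace Groth.Agent.GabberRig6

open Groth.Agent.EtStalk hiding agree isOpen_agree mem_agree_iff_germ agree_symm agree_trans agree_self eq_of_agree mem_agree_map mem_agree_unit baseChange0_germ
open Groth.Agent.EtDesc24 (agree isOpen_agree mem_agree_iff_germ eq_of_agree baseChange0_germ)
open Groth.Agent.ProperPush24 (Stage HasLifts toStage toStage_hom toStage_fst toStage_map exists_affine_stage)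
open Groth.Agent.ShFlat24 (exists_stage stageFib lift_unique closedPt_default bcTop_inv_proj)
open Groth.Agent.SetsStage24 (val val_map val_congr' res val_res At at_res at_toComp toComp fromComp toComp_fromComp germ_eq_of_agree exists_stage_section)
open Groth.Agent.Gabber24 (prodFst prodSnd)
open Groth.Agent.EtSets24 (exists_congr_map)

set_option maxHeartbeats 2000000 in
/-- The stalk of the base change map from models: the induced map has rigid sections and meets closed sets. -/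
theorem bijective_stalk_of_model {X S : Scheme.{u}} (f : X ⟶ S)
    {Y T : Scheme.{u}} (g : T ⟶ S) [QuasiCompact g] [QuasiSeparated g] (h : Y ⟶ X) [QuasiCompact h] [QuasiSeparated h]
    (e : Y ⟶ T) (hsq : IsPullback e h g f) (F : EtDesc.Sh T)
    {Ω : Type u} [Field Ω] [IsSepClosed Ω] (ξ : Spec (CommRingCat.of Ω) ⟶ X)
    {A B : Type u} [CommRing A] [HenselianLocalRing A] [IsSepClosed (ResidueField A)]
    [CommRing B] [HenselianLocalRing B] [IsSepClosed (ResidueField B)]
    (α : Spec (CommRingCat.of A) ⟶ S) [Flat α] (hLA : HasLifts α) (β : Spec (CommRingCat.of B) ⟶ X) [Flat β]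
    (ψ : A →+* B)
    (ζA : Spec (CommRingCat.of Ω) ⟶ Spec (CommRingCat.of (ResidueField A)))
    (ζB : Spec (CommRingCat.of Ω) ⟶ Spec (CommRingCat.of (ResidueField B)))
    (hαβ : β ≫ f = Spec.map (CommRingCat.ofHom ψ) ≫ α)
    (hξ : ζB ≫ Spec.map (CommRingCat.ofHom (residue B)) ≫ β = ξ)
    (hζ : ζB ≫ Spec.map (CommRingCat.ofHom (residue B)) ≫ Spec.map (CommRingCat.ofHom ψ) =
      ζA ≫ Spec.map (CommRingCat.ofHom (residue A)))
    (hθ : ∀ θ : pullback h β ⟶ pullback g α,
      IsPullback θ (pullback.snd h β) (pullback.snd g α) (Spec.map (CommRingCat.ofHom ψ)) →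
      (∀ G : EtDesc.Sh (pullback g α), Function.Bijective (EtDesc.secPull θ G)) ∧
      (∀ M : Set (pullback g α : Scheme.{u}), IsOpen M → (∀ y, θ y ∈ M) → ∀ w, w ∈ M)) :
    Function.Bijective ((Sets.stalk ξ).map (EtBC.baseChange0Sh g f h e hsq.w F)) := by
  let sψ := Spec.map (CommRingCat.ofHom ψ)
  have hη : ζA ≫ EtStalk.closedPt A ≫ α = ξ ≫ f := by
    rw [← hξ, Category.assoc, Category.assoc, hαβ, ← Category.assoc, ← hζ]
    simp only [Category.assoc]
  let G := (EtDesc.pullSh e).obj F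
  let pA := pullback.fst g α
  let pY := pullback.fst h β
  let θ : pullback h β ⟶ pullback g α := pullback.lift (pY ≫ e) (pullback.snd h β ≫ sψ) (by
    rw [Category.assoc, hsq.w, ← Category.assoc, pullback.condition, Category.assoc, hαβ, Category.assoc])
  have hθA : θ ≫ pA = pY ≫ e := pullback.lift_fst _ _ _
  have hθsq : IsPullback θ (pullback.snd h β) (pullback.snd g α) sψ := by
    refine IsPullback.of_right ?_ (pullback.lift_snd _ _ _) (IsPullback.of_hasPullback g α)
    rw [hθA, ← hαβ]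
    exact (IsPullback.of_hasPullback h β).paste_horiz hsq
  obtain ⟨hbij', hmeets⟩ := hθ θ hθsq
  have hbij : ∀ G : EtDesc.Sh (pullback g α), Function.Bijective (EtDesc24.unitAt θ G (EtCoh.top _)) := fun G => by
    have := hbij' G
    exact ((((EtDesc.pullSh θ).obj G).obj.mapIso (EtCore.bcTopIso θ).symm.op).toEquiv.bijective.of_comp_iff' _).1 this
  have hb := ConcreteCategory.bijective_of_isIso (Sets.stalkPull f ξ ((EtDesc.pushSh g).obj F))
  let v (T₁ : Stage α) : fib (ξ ≫ f) T₁.V := stageFib ζA hη T₁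
  let vB (TB : Stage β) : fib ξ TB.V := stageFib ζB hξ TB
  have himg : ∀ {V : S.Etale} (v : fib (ξ ≫ f) V) (t : F.obj.obj (op ((EtCoh.bc g).obj V))),
      (Sets.stalk ξ).map (EtBC.baseChange0Sh g f h e hsq.w F)
        (Sets.stalkPull f ξ ((EtDesc.pushSh g).obj F) (Sets.germ (ξ ≫ f) _ v t)) =
      Sets.germ ξ ((EtDesc.pushSh h).obj G) (liftFib f ξ v) (G.obj.map (sqHom g f h e hsq.w V).op (res e F t)) := by
    intro V v t
    rw [Sets.germ_stalkPull, Sets.germ_nat, baseChange0_germ]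
  -- the stage upstairs over a stage downstairs
  have hup : ∀ T₁ : Stage α, ∃ a : Spec (CommRingCat.of B) ⟶ ((EtCoh.bc f).obj T₁.V).left,
      a ≫ ((EtCoh.bc f).obj T₁.V).hom = β ∧ a ≫ bcFst f T₁.V = sψ ≫ T₁.a ∧
      ζB ≫ EtStalk.closedPt B ≫ a = ((liftFib f ξ (v T₁)).left : Spec (CommRingCat.of Ω) ⟶ _) := by
    intro T₁
    let a : Spec (CommRingCat.of B) ⟶ ((EtCoh.bc f).obj T₁.V).left := pullback.lift (sψ ≫ T₁.a) β (by
      rw [Category.assoc, T₁.w, hαβ])
    refine ⟨a, pullback.lift_snd _ _ _, pullback.lift_fst _ _ _, pullback.hom_ext ?_ ?_⟩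
    · refine Eq.trans ?_ (pullback.lift_fst _ _ _).symm
      refine (Category.assoc _ _ _).trans ((congrArg (ζB ≫ ·) ((Category.assoc _ _ _).trans
        (congrArg (_ ≫ ·) (pullback.lift_fst _ _ _)))).trans ?_)
      show ζB ≫ EtStalk.closedPt B ≫ sψ ≫ T₁.a = ζA ≫ EtStalk.closedPt A ≫ T₁.a
      have := congrArg (· ≫ T₁.a) hζ
      simpa only [Category.assoc] using this
    · refine Eq.trans ?_ (pullback.lift_snd _ _ _).symm
      exact (Category.assoc _ _ _).trans ((congrArg (ζB ≫ ·) ((Category.assoc _ _ _).trans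
        (congrArg (_ ≫ ·) (pullback.lift_snd _ _ _)))).trans hξ)
  -- values of the image on the local base change
  have hvals : ∀ (T₁ : Stage α) (t : F.obj.obj (op ((EtCoh.bc g).obj T₁.V))) (TB : Stage β)
      (m : TB.V ⟶ (EtCoh.bc f).obj T₁.V), TB.a ≫ m.left ≫ bcFst f T₁.V = sψ ≫ T₁.a →
      ∀ (K : Type u) [Field K] [IsSepClosed K] (ω : Spec (CommRingCat.of K) ⟶ pullback h β),
      val G (ω ≫ pY) (ω ≫ toStage h TB) (by rw [Category.assoc, toStage_hom])
        (G.obj.map ((EtCoh.bc h).map m).op (G.obj.map (sqHom g f h e hsq.w T₁.V).op (res e F t))) =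
      Sets.stalkPull e (ω ≫ pY) F (val F ((ω ≫ pY) ≫ e) ((ω ≫ θ) ≫ toStage g T₁)
        (by rw [Category.assoc _ (toStage g T₁), toStage_hom, Category.assoc, hθA, Category.assoc]) t) := by
    intro T₁ t TB m hm K _ _ ω
    let l : Spec (CommRingCat.of K) ⟶ ((EtCoh.bc h).obj ((EtCoh.bc f).obj T₁.V)).left :=
      (ω ≫ toStage h TB) ≫ ((EtCoh.bc h).map m).left
    have hl : l ≫ ((EtCoh.bc h).obj ((EtCoh.bc f).obj T₁.V)).hom = ω ≫ pY := by
      refine (Category.assoc _ _ _).trans ((congrArg (_ ≫ ·) (MorphismProperty.Over.w ((EtCoh.bc h).map m))).trans ?_)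
      exact (Category.assoc _ _ _).trans (congrArg (ω ≫ ·) (toStage_hom h TB))
    refine (val_map G (ω ≫ pY) ((EtCoh.bc h).map m) _ _ l hl rfl _).trans ?_
    refine at_res e F t (sqHom g f h e hsq.w T₁.V) ((ω ≫ θ) ≫ toStage g T₁) _ (pullback.hom_ext ?_ ?_)
    · refine Eq.trans ?_ ((Category.assoc _ _ _).trans (congrArg (_ ≫ ·) (toStage_fst g T₁))).symm
      refine (Category.assoc _ _ _).trans ((congrArg (l ≫ ·) ((Category.assoc _ _ _).trans
        (sqHom_fst g f h e hsq.w T₁.V))).trans ?_)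
      refine (Category.assoc _ _ _).trans ((congrArg ((ω ≫ toStage h TB) ≫ ·) ((Category.assoc _ _ _).symm.trans
        ((congrArg (· ≫ bcFst f T₁.V) (bcFst_nat h m)).trans (Category.assoc _ _ _)))).trans ?_)
      refine ((Category.assoc _ _ _).trans (congrArg (ω ≫ ·) ((Category.assoc _ _ _).symm.trans
        ((congrArg (· ≫ (m.left ≫ bcFst f T₁.V)) (toStage_fst h TB)).trans ((Category.assoc _ _ _).trans
          (congrArg (_ ≫ ·) hm)))))).trans ?_
      rw [Category.assoc ω θ, ← Category.assoc θ, show θ ≫ pullback.snd g α = pullback.snd h β ≫ sψ from pullback.lift_snd _ _ _]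
      simp only [Category.assoc]
    · refine Eq.trans ?_ ((Category.assoc _ _ _).trans (congrArg (_ ≫ ·) (toStage_hom g T₁))).symm
      have hc : bcFst e ((EtCoh.bc g).obj T₁.V) ≫ ((EtCoh.bc g).obj T₁.V).hom =
          ((EtCoh.bc e).obj ((EtCoh.bc g).obj T₁.V)).hom ≫ e := pullback.condition
      have hw := MorphismProperty.Over.w (sqHom g f h e hsq.w T₁.V)
      refine (Category.assoc _ _ _).trans ((congrArg (l ≫ ·) ((Category.assoc _ _ _).trans
        (congrArg (_ ≫ ·) hc))).trans ?_)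
      rw [← Category.assoc (sqHom g f h e hsq.w T₁.V).left, hw, ← Category.assoc, hl, Category.assoc ω θ,
        hθA, Category.assoc]
  constructor
  · intro p q hpq
    obtain ⟨p', rfl⟩ := hb.2 p
    obtain ⟨q', rfl⟩ := hb.2 q
    obtain ⟨V, v₀, t₀, t₀', rfl, rfl⟩ := GrothendieckTopology.Point.toPresheafFiber_jointly_surjective₂
      (Scheme.pointSmallEtale (ξ ≫ f)) (A := Type (u + 1)) (CC := fun X => X)
      (P := ((EtDesc.pushSh g).obj F).obj) p' q'
    change (Sets.stalk ξ).map _ (Sets.stalkPull f ξ _ (Sets.germ (ξ ≫ f) _ v₀ t₀)) =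
      (Sets.stalk ξ).map _ (Sets.stalkPull f ξ _ (Sets.germ (ξ ≫ f) _ v₀ t₀')) at hpq
    show Sets.stalkPull f ξ _ (Sets.germ (ξ ≫ f) _ v₀ t₀) = Sets.stalkPull f ξ _ (Sets.germ (ξ ≫ f) _ v₀ t₀')
    obtain ⟨T₁, m₁, hm₁⟩ := exists_stage α ζA V v₀.left ((Over.w v₀).trans hη.symm)
    have e₀ : ∀ t, Sets.germ (ξ ≫ f) ((EtDesc.pushSh g).obj F) v₀ t =
        Sets.germ (ξ ≫ f) ((EtDesc.pushSh g).obj F) (v T₁) (((EtDesc.pushSh g).obj F).obj.map m₁.op t) := fun t => by
      rw [Sets.germ_map]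
      exact congrArg (fun z => Sets.germ (ξ ≫ f) ((EtDesc.pushSh g).obj F) z t) (Over.OverMorphism.ext hm₁.symm)
    rw [e₀, e₀] at hpq ⊢
    generalize ((EtDesc.pushSh g).obj F).obj.map m₁.op t₀ = t at hpq ⊢
    generalize ((EtDesc.pushSh g).obj F).obj.map m₁.op t₀' = t' at hpq ⊢
    refine congrArg _ ?_
    refine germ_eq_of_agree ζA g F hη T₁ t t' fun w => ?_
    have hp : Sets.germ ξ ((EtDesc.pushSh h).obj G) (liftFib f ξ (v T₁)) (G.obj.map (sqHom g f h e hsq.w T₁.V).op (res e F t)) =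
        Sets.germ ξ ((EtDesc.pushSh h).obj G) (liftFib f ξ (v T₁)) (G.obj.map (sqHom g f h e hsq.w T₁.V).op (res e F t')) :=
      (himg (v T₁) t).symm.trans (hpq.trans (himg (v T₁) t'))
    obtain ⟨W, m, wW, hwW, hWt⟩ := (Sets.germ_eq_iff ξ ((EtDesc.pushSh h).obj G) _ _ _).1 hp
    obtain ⟨TB, n, hn⟩ := exists_stage β ζB W wW.left ((Over.w wW).trans hξ.symm)
    obtain ⟨a, ha, haf, haz⟩ := hup T₁
    have hlift : TB.a ≫ (n ≫ m).left = a := by
      refine lift_unique ζB ((EtCoh.bc f).obj T₁.V) _ _ ?_ ?_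
      · rw [Category.assoc, MorphismProperty.Over.w, TB.w, ha]
      · rw [haz]
        refine Eq.trans ?_ (congrArg (fun z : fib ξ ((EtCoh.bc f).obj T₁.V) => z.left) hwW)
        show _ = wW.left ≫ m.left
        rw [← hn, show (n ≫ m).left = n.left ≫ m.left from rfl]
        exact ((Category.assoc _ _ _).trans (congrArg (ζB ≫ ·) ((Category.assoc _ _ _).trans
          (congrArg (_ ≫ ·) (Category.assoc _ _ _))))).symm
    revert w
    refine hmeets _ ((isOpen_agree F t t').preimage (toStage g T₁).continuous) fun y => ?_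
    show toStage g T₁ (θ y) ∈ agree F t t'
    let ω := geomPt (pullback h β) y
    have e2 : G.obj.map ((EtCoh.bc h).map (n ≫ m)).op (G.obj.map (sqHom g f h e hsq.w T₁.V).op (res e F t)) =
        G.obj.map ((EtCoh.bc h).map (n ≫ m)).op (G.obj.map (sqHom g f h e hsq.w T₁.V).op (res e F t')) := by
      have h4 := congrArg (G.obj.map ((EtCoh.bc h).map n).op) hWt
      simp only [Functor.map_comp, op_comp, ConcreteCategory.comp_apply]
      exact h4
    have hTB : TB.a ≫ (n ≫ m).left ≫ bcFst f T₁.V = sψ ≫ T₁.a := by rw [← Category.assoc, hlift, haf]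
    have h5 := ((hvals T₁ t TB (n ≫ m) hTB _ ω).symm.trans ((congrArg _ e2).trans (hvals T₁ t' TB (n ≫ m) hTB _ ω)))
    have h6 := (ConcreteCategory.bijective_of_isIso (Sets.stalkPull e (ω ≫ pY) F)).1 h5
    let φ : fib ((ω ≫ pY) ≫ e) ((EtCoh.bc g).obj T₁.V) := Over.homMk ((ω ≫ θ) ≫ toStage g T₁) (by
      show ((ω ≫ θ) ≫ toStage g T₁) ≫ ((EtCoh.bc g).obj T₁.V).hom = (ω ≫ pY) ≫ e
      rw [Category.assoc _ (toStage g T₁), toStage_hom, Category.assoc, hθA, Category.assoc])
    have hpt : fibPt φ = toStage g T₁ (θ y) := by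
      show ((ω ≫ θ) ≫ toStage g T₁) default = _
      rw [Scheme.Hom.comp_apply, Scheme.Hom.comp_apply, geomPt_default]
    rw [← hpt]
    exact (mem_agree_iff_germ F φ t t').2 h6
  · intro q
    obtain ⟨W, wW, t₀, rfl⟩ := Sets.germ_surjective ξ ((EtDesc.pushSh h).obj G) q
    obtain ⟨TW, n₀, hn₀⟩ := exists_stage β ζB W wW.left ((Over.w wW).trans hξ.symm)
    let t' : G.obj.obj (op ((EtCoh.bc h).obj TW.V)) := G.obj.map ((EtCoh.bc h).map n₀).op t₀
    have e₀ : Sets.germ ξ ((EtDesc.pushSh h).obj G) wW t₀ = Sets.germ ξ ((EtDesc.pushSh h).obj G) (vB TW) t' := by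
      refine Eq.trans ?_ (Sets.germ_map ξ ((EtDesc.pushSh h).obj G) n₀ (vB TW) t₀).symm
      exact congrArg (fun z => Sets.germ ξ ((EtDesc.pushSh h).obj G) z t₀) (Over.OverMorphism.ext hn₀.symm)
    rw [e₀]
    -- the section on the local base change
    let m₀ : EtCoh.top (pullback h β) ⟶ (EtCoh.bc pY).obj ((EtCoh.bc h).obj TW.V) :=
      MorphismProperty.Over.homMk (pullback.lift (toStage h TW) (𝟙 _)
        ((toStage_hom h TW).trans (Category.id_comp pY).symm)) (pullback.lift_snd _ _ _)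
    let τ := ((EtDesc.pullSh pY).obj G).obj.map m₀.op (res pY G t')
    obtain ⟨σ, hσ⟩ := exists_congr_map hθA.symm F (toComp F pY e τ)
    obtain ⟨ρ, hρ⟩ := (hbij ((EtDesc.pullSh pA).obj F)).2
      (((EtDesc.pullSh θ).obj ((EtDesc.pullSh pA).obj F)).obj.map (EtCore.bcTopIso θ).hom.op (fromComp F θ pA σ))
    obtain ⟨T₀, -, -⟩ := exists_affine_stage (α := α) (EtCoh.top S) α (Category.comp_id α)
    obtain ⟨T₁, t, ht⟩ := exists_stage_section g F hLA T₀ ρ
    refine ⟨Sets.stalkPull f ξ _ (Sets.germ (ξ ≫ f) _ (v T₁) t), (himg (v T₁) t).trans ?_⟩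
    obtain ⟨a, ha, haf, haz⟩ := hup T₁
    let P := Gabber24.prod ((EtCoh.bc f).obj T₁.V) TW.V
    let b : Spec (CommRingCat.of B) ⟶ P.left := pullback.lift a TW.a (ha.trans TW.w.symm)
    obtain ⟨TB, n, hn⟩ := exists_affine_stage (α := β) P b ((Category.assoc _ _ _).symm.trans
      ((congrArg (· ≫ ((EtCoh.bc f).obj T₁.V).hom) (pullback.lift_fst _ _ _)).trans ha))
    let m₁ : TB.V ⟶ (EtCoh.bc f).obj T₁.V := n ≫ prodFst _ _
    let m₂ : TB.V ⟶ TW.V := n ≫ prodSnd _ _
    have hm₁ : TB.a ≫ m₁.left = a :=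
      (Category.assoc _ _ _).symm.trans ((congrArg (· ≫ _) hn).trans (pullback.lift_fst _ _ _))
    have hm₂ : TB.a ≫ m₂.left = TW.a :=
      (Category.assoc _ _ _).symm.trans ((congrArg (· ≫ _) hn).trans (pullback.lift_snd _ _ _))
    have hv₁ : (Scheme.pointSmallEtale ξ).fiber.map m₁ (vB TB) = liftFib f ξ (v T₁) :=
      Over.OverMorphism.ext (by
        show (ζB ≫ EtStalk.closedPt B ≫ TB.a) ≫ m₁.left = _
        rw [Category.assoc, Category.assoc, hm₁, haz])
    have hv₂ : (Scheme.pointSmallEtale ξ).fiber.map m₂ (vB TB) = vB TW :=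
      Over.OverMorphism.ext (by
        show (ζB ≫ EtStalk.closedPt B ≫ TB.a) ≫ m₂.left = _
        rw [Category.assoc, Category.assoc, hm₂]
        rfl)
    rw [← hv₁, ← Sets.germ_map, ← hv₂, ← Sets.germ_map]
    refine germ_eq_of_agree ζB h G hξ TB _ _ fun y => ?_
    let ω := geomPt (pullback h β) y
    let φ : fib (ω ≫ pY) ((EtCoh.bc h).obj TB.V) := Over.homMk (ω ≫ toStage h TB) (by
      show (ω ≫ toStage h TB) ≫ ((EtCoh.bc h).obj TB.V).hom = ω ≫ pY
      rw [Category.assoc, toStage_hom])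
    have hpt : fibPt φ = toStage h TB y := by
      show (ω ≫ toStage h TB) default = _
      rw [Scheme.Hom.comp_apply, geomPt_default]
    rw [← hpt]
    refine (mem_agree_iff_germ G φ _ _).2 ?_
    refine (hvals T₁ t TB m₁ (by rw [← Category.assoc, hm₁, haf]) _ ω).trans ?_
    refine Eq.trans ?_ (val_map G (ω ≫ pY) ((EtCoh.bc h).map m₂) (ω ≫ toStage h TB)
      (by rw [Category.assoc, toStage_hom]) (ω ≫ toStage h TW) (by rw [Category.assoc, toStage_hom])
      (by rw [Category.assoc, toStage_map h m₂ hm₂]) t').symm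
    obtain ⟨p, hp⟩ := (ConcreteCategory.bijective_of_isIso (Sets.stalkPull e (ω ≫ pY) F)).2
      (val G (ω ≫ pY) (ω ≫ toStage h TW) (by rw [Category.assoc, toStage_hom]) t')
    obtain ⟨N, z, s, hs⟩ := Sets.germ_surjective ((ω ≫ pY) ≫ e) F p
    have hτ : At pY G τ ω ω (Category.comp_id ω) (ω ≫ toStage h TW) (by rw [Category.assoc, toStage_hom]) t' :=
      at_res pY G t' m₀ (ω ≫ toStage h TW) _ (congrArg (ω ≫ ·) (pullback.lift_fst _ _ _))
    have hAt := hσ _ ω N z.left (by rw [hθA, ← Category.assoc]; exact Over.w z) s (at_toComp F pY e τ ω (Category.comp_id ω) z.left (Over.w z) s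
      (hτ.trans (congrArg _ (by rw [← hp, show val F ((ω ≫ pY) ≫ e) z.left (Over.w z) s = p from hs]))))
    -- the same value from the stage
    let η := ω ≫ θ
    have e3 : ((EtDesc.pullSh θ).obj ((EtDesc.pullSh pA).obj F)).obj.map (EtCore.bcTopIso θ).inv.op
        (res θ ((EtDesc.pullSh pA).obj F) ρ) = fromComp F θ pA σ := by
      show ((EtDesc.pullSh θ).obj ((EtDesc.pullSh pA).obj F)).obj.map _ (EtDesc24.unitAt θ ((EtDesc.pullSh pA).obj F) (EtCoh.top _) ρ) = _
      rw [hρ, ← Functor.map_comp_apply, ← op_comp, Iso.inv_hom_id, op_id, Functor.map_id_apply]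
    have h1 : At θ ((EtDesc.pullSh pA).obj F) (fromComp F θ pA σ) ω ω (Category.comp_id ω) η (Category.comp_id _) ρ :=
      e3 ▸ at_res θ ((EtDesc.pullSh pA).obj F) ρ (EtCore.bcTopIso θ).inv η (Category.comp_id _)
        (congrArg (ω ≫ ·) (bcTop_inv_proj θ))
    have hfin := at_toComp F θ pA (fromComp F θ pA σ) ω (Category.comp_id ω) (η ≫ toStage g T₁)
      (by rw [Category.assoc _ (toStage g T₁), toStage_hom]) t (h1.trans (congrArg _ (ht _ η)))
    rw [toComp_fromComp] at hfin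
    have h2 := hAt.val_eq hfin
    rw [← hp]
    refine congrArg _ ?_
    have e4 : (ω ≫ pY) ≫ e = ω ≫ θ ≫ pA := by rw [Category.assoc, hθA]
    exact ((val_congr' F e4 rfl rfl (ha := Over.w z)
      (hb := by rw [Category.assoc _ (toStage g T₁), toStage_hom, Category.assoc, hθA, Category.assoc])).2 h2).symm.trans hs


end Groth.Agent.GabberRig6
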