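import Groth.Agent.Lib.SetsStage24.Val
import Groth.Agent.Lib.Gabber24.Matches
import Groth.Agent.Lib.GabberRig6.Cyl
import Groth.Agent.Lib.NormSep24.Flasque
import Mathlib.AlgebraicGeometry.Morphisms.Integral

/-! # Sections of sheaves of sets along a rigid square -/

set_option autoImplicit false
universe u

open CategoryTheory CategoryTheory.Limits AlgebraicGeometry Opposite

set_option backward.isDefEq.respectTransparency.types false

namespace Groth.Agent.GabberRig6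

open Groth.Agent.EtStalk hiding agree isOpen_agree mem_agree_iff_germ agree_symm agree_trans agree_self eq_of_agree mem_agree_map mem_agree_unit
open Groth.Agent.SetsStage24 (val val_map val_congr' same isOpen_same mem_same_iff At exists_at ext_val)
open Groth.Agent.Gabber24 (toTop prodFst prodSnd prod)
open Groth.Agent.EtDesc24 (agree isOpen_agree mem_agree_iff_germ eq_of_agree)
open Groth.Agent.ConnDescent24 (cmpScheme)

variable {X X' Z Z' : Scheme.{u}}

/-- A section of `F` on a Zariski piece of `X'` through an etale `X`-scheme. -/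
structure Piece (p : X' ⟶ X) (F : EtDesc.Sh X) where
  opn : X'.Opens
  obj : X.Etale
  map : (opn : Scheme.{u}) ⟶ obj.left
  comm : map ≫ obj.hom = opn.ι ≫ p
  sec : F.obj.obj (op obj)

variable {p : X' ⟶ X} {F : EtDesc.Sh X}

lemma Piece.comm' (P : Piece p F) {S : Scheme.{u}} (a : S ⟶ P.opn) :
    (a ≫ P.map) ≫ P.obj.hom = a ≫ P.opn.ι ≫ p := by
  rw [Category.assoc, P.comm]

/-- The values of two pieces at lifts of one geometric point of `X`. -/
def Agrees (P Q : Piece p F) : Prop :=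
  ∀ (Ω : Type u) [Field Ω] [IsSepClosed Ω] (ξ : Spec (CommRingCat.of Ω) ⟶ X)
    (a : Spec (CommRingCat.of Ω) ⟶ P.opn) (b : Spec (CommRingCat.of Ω) ⟶ Q.opn)
    (ha : (a ≫ P.map) ≫ P.obj.hom = ξ) (hb : (b ≫ Q.map) ≫ Q.obj.hom = ξ),
    val F ξ (a ≫ P.map) ha P.sec = val F ξ (b ≫ Q.map) hb Q.sec

/-- The two pieces agree at a point of `X'`. -/
def eqLocus (P Q : Piece p F) : Set X' :=
  (P.opn ⊓ Q.opn).ι '' same F (a := X'.homOfLE inf_le_left ≫ P.map) (b := X'.homOfLE inf_le_right ≫ Q.map)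
    (q := (P.opn ⊓ Q.opn).ι ≫ p) (by rw [P.comm', Scheme.homOfLE_ι_assoc]) (by rw [Q.comm', Scheme.homOfLE_ι_assoc])
    P.sec Q.sec

lemma isOpen_eqLocus (P Q : Piece p F) : IsOpen (eqLocus P Q) :=
  (P.opn ⊓ Q.opn).ι.isOpenEmbedding.isOpenMap _ (isOpen_same _ _ _ _ _)

lemma eqLocus_subset (P Q : Piece p F) : eqLocus P Q ⊆ (P.opn ⊓ Q.opn : X'.Opens) := by
  rintro _ ⟨y, -, rfl⟩
  exact y.2

lemma mem_eqLocus_iff (P Q : Piece p F) {Ω : Type u} [Field Ω] [IsSepClosed Ω]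
    (ξ : Spec (CommRingCat.of Ω) ⟶ X') (a : Spec (CommRingCat.of Ω) ⟶ P.opn)
    (b : Spec (CommRingCat.of Ω) ⟶ Q.opn) (ha : a ≫ P.opn.ι = ξ) (hb : b ≫ Q.opn.ι = ξ) :
    ξ default ∈ eqLocus P Q ↔
      val F (ξ ≫ p) (a ≫ P.map) (by rw [P.comm', ← Category.assoc, ha]) P.sec =
        val F (ξ ≫ p) (b ≫ Q.map) (by rw [Q.comm', ← Category.assoc, hb]) Q.sec := by
  have hr : Set.range ξ ⊆ Set.range (P.opn ⊓ Q.opn).ι := by
    rintro _ ⟨w, rfl⟩
    rw [Scheme.Opens.range_ι]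
    exact ⟨by rw [← ha, Scheme.Hom.comp_apply]; exact (a w).2, by rw [← hb, Scheme.Hom.comp_apply]; exact (b w).2⟩
  let l := IsOpenImmersion.lift (P.opn ⊓ Q.opn).ι ξ hr
  have hl : l ≫ (P.opn ⊓ Q.opn).ι = ξ := IsOpenImmersion.lift_fac _ _ _
  have hla : l ≫ X'.homOfLE inf_le_left = a := by
    rw [← cancel_mono P.opn.ι, Category.assoc, Scheme.homOfLE_ι, hl, ha]
  have hlb : l ≫ X'.homOfLE inf_le_right = b := by
    rw [← cancel_mono Q.opn.ι, Category.assoc, Scheme.homOfLE_ι, hl, hb]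
  have hpt : ξ default = (P.opn ⊓ Q.opn).ι (l default) := by rw [← Scheme.Hom.comp_apply, hl]
  rw [hpt, eqLocus, ((P.opn ⊓ Q.opn).ι.isOpenEmbedding.injective.mem_set_image), mem_same_iff]
  exact val_congr' F (by rw [← Category.assoc, hl]) (by rw [← Category.assoc, hla]) (by rw [← Category.assoc, hlb])

lemma exists_lift_opn (P : Piece p F) {Ω : Type u} [Field Ω] (ξ : Spec (CommRingCat.of Ω) ⟶ X')
    (h : ξ default ∈ P.opn) : ∃ a : Spec (CommRingCat.of Ω) ⟶ P.opn, a ≫ P.opn.ι = ξ :=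
  ⟨IsOpenImmersion.lift P.opn.ι ξ (by
    rintro _ ⟨w, rfl⟩
    rw [Scheme.Opens.range_ι, Subsingleton.elim w default]; exact h), IsOpenImmersion.lift_fac _ _ _⟩

lemma eqLocus_refl (P : Piece p F) : (P.opn : Set X') ⊆ eqLocus P P := by
  intro x hx
  obtain ⟨a, ha⟩ := exists_lift_opn P (geomPt X' x) (by rw [geomPt_default]; exact hx)
  have h := (mem_eqLocus_iff P P (geomPt X' x) a a ha ha).mpr rfl
  rwa [geomPt_default] at h

lemma eqLocus_symm (P Q : Piece p F) : eqLocus P Q ⊆ eqLocus Q P := by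
  intro x hx
  obtain ⟨a, ha⟩ := exists_lift_opn P (geomPt X' x) (by rw [geomPt_default]; exact (eqLocus_subset P Q hx).1)
  obtain ⟨b, hb⟩ := exists_lift_opn Q (geomPt X' x) (by rw [geomPt_default]; exact (eqLocus_subset P Q hx).2)
  rw [← geomPt_default x] at hx
  have h := (mem_eqLocus_iff Q P (geomPt X' x) b a hb ha).mpr ((mem_eqLocus_iff P Q (geomPt X' x) a b ha hb).mp hx).symm
  rwa [geomPt_default] at h

lemma eqLocus_trans (P Q S : Piece p F) : eqLocus P Q ∩ eqLocus Q S ⊆ eqLocus P S := by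
  rintro x ⟨hx, hx'⟩
  obtain ⟨a, ha⟩ := exists_lift_opn P (geomPt X' x) (by rw [geomPt_default]; exact (eqLocus_subset P Q hx).1)
  obtain ⟨b, hb⟩ := exists_lift_opn Q (geomPt X' x) (by rw [geomPt_default]; exact (eqLocus_subset P Q hx).2)
  obtain ⟨c, hc⟩ := exists_lift_opn S (geomPt X' x) (by rw [geomPt_default]; exact (eqLocus_subset Q S hx').2)
  rw [← geomPt_default x] at hx hx'
  have h := (mem_eqLocus_iff P S (geomPt X' x) a c ha hc).mpr
    (((mem_eqLocus_iff P Q (geomPt X' x) a b ha hb).mp hx).trans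
      ((mem_eqLocus_iff Q S (geomPt X' x) b c hb hc).mp hx'))
  rwa [geomPt_default] at h

section Match

variable {g : Z ⟶ X} {g' : Z' ⟶ X'} {p' : Z' ⟶ Z} (w : p' ≫ g = g' ≫ p)
  (σ : ((EtDesc.pullSh g).obj F).obj.obj (op (EtCoh.top Z)))

/-- The piece restricts to `σ` near a point of `Z'`. -/
noncomputable def toCmp (P : Piece p F) : (g' ⁻¹ᵁ P.opn : Scheme.{u}) ⟶ cmpScheme g (EtCoh.top Z) P.obj :=
  pullback.lift ((g' ⁻¹ᵁ P.opn).ι ≫ p') ((g' ∣_ P.opn) ≫ P.map) (by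
    rw [Category.assoc _ _ P.obj.hom, P.comm, morphismRestrict_ι_assoc]
    show ((g' ⁻¹ᵁ P.opn).ι ≫ p') ≫ (𝟙 Z ≫ g) = _
    rw [Category.id_comp, Category.assoc, w])

/-- Where the piece restricts to `σ`. -/
noncomputable def goodLocus (P : Piece p F) : Set Z' :=
  (g' ⁻¹ᵁ P.opn).ι '' (toCmp w P ⁻¹' SetsStage24.good g F σ P.sec)

lemma isOpen_goodLocus (P : Piece p F) : IsOpen (goodLocus w σ P) :=
  (g' ⁻¹ᵁ P.opn).ι.isOpenEmbedding.isOpenMap _
    ((SetsStage24.isOpen_good g F σ P.sec).preimage (Scheme.Hom.continuous _))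

lemma goodLocus_subset (P : Piece p F) : goodLocus w σ P ⊆ g' ⁻¹' (P.opn : Set X') := by
  rintro _ ⟨y, -, rfl⟩
  exact y.2

lemma mem_goodLocus_iff (P : Piece p F) {Ω : Type u} [Field Ω] [IsSepClosed Ω]
    (ξ : Spec (CommRingCat.of Ω) ⟶ Z') (a : Spec (CommRingCat.of Ω) ⟶ P.opn) (ha : a ≫ P.opn.ι = ξ ≫ g') :
    ξ default ∈ goodLocus w σ P ↔
      At g F σ (ξ ≫ p') (ξ ≫ p') (Category.comp_id _) (a ≫ P.map)
        (by rw [P.comm', ← Category.assoc, ha, Category.assoc, Category.assoc, w]) P.sec := by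
  have hr : Set.range ξ ⊆ Set.range (g' ⁻¹ᵁ P.opn).ι := by
    rintro _ ⟨v, rfl⟩
    rw [Scheme.Opens.range_ι]
    show g' (ξ v) ∈ P.opn
    rw [← Scheme.Hom.comp_apply, ← ha, Scheme.Hom.comp_apply]
    exact (a v).2
  let l := IsOpenImmersion.lift (g' ⁻¹ᵁ P.opn).ι ξ hr
  have hl : l ≫ (g' ⁻¹ᵁ P.opn).ι = ξ := IsOpenImmersion.lift_fac _ _ _
  have hla : l ≫ (g' ∣_ P.opn) = a := by
    rw [← cancel_mono P.opn.ι, Category.assoc, morphismRestrict_ι, ← Category.assoc, hl, ha]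
  have hpt : ξ default = (g' ⁻¹ᵁ P.opn).ι (l default) := by rw [← Scheme.Hom.comp_apply, hl]
  rw [hpt, goodLocus, ((g' ⁻¹ᵁ P.opn).ι.isOpenEmbedding.injective.mem_set_image), Set.mem_preimage,
    ← Scheme.Hom.comp_apply]
  exact SetsStage24.mem_good_iff g F σ P.sec (l ≫ toCmp w P) (ξ ≫ p') (ξ ≫ p') (a ≫ P.map)
    (by rw [Category.assoc, toCmp, pullback.lift_fst, ← Category.assoc, hl])
    (by rw [Category.assoc, toCmp, pullback.lift_snd, ← Category.assoc, hla])
    (Category.comp_id _) _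

/-- Two pieces restricting to `σ` agree. -/
lemma goodLocus_inter (P Q : Piece p F) : goodLocus w σ P ∩ goodLocus w σ Q ⊆ g' ⁻¹' eqLocus P Q := by
  rintro x ⟨hx, hx'⟩
  have e : (geomPt Z' x ≫ g') default = g' x := by rw [Scheme.Hom.comp_apply, geomPt_default]
  obtain ⟨a, ha⟩ := exists_lift_opn P (geomPt Z' x ≫ g') (by rw [e]; exact goodLocus_subset w σ P hx)
  obtain ⟨b, hb⟩ := exists_lift_opn Q (geomPt Z' x ≫ g') (by rw [e]; exact goodLocus_subset w σ Q hx')
  rw [← geomPt_default x] at hx hx'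
  have h := ((mem_goodLocus_iff w σ P (geomPt Z' x) a ha).mp hx).val_eq
    ((mem_goodLocus_iff w σ Q (geomPt Z' x) b hb).mp hx')
  show g' x ∈ eqLocus P Q
  rw [← e]
  exact (mem_eqLocus_iff P Q _ a b ha hb).mpr
    ((val_congr' F (by simp only [Category.assoc, w]) rfl rfl).mp h)

/-- Every point has a piece restricting to `σ`. -/
lemma exists_piece (hZL : ∀ (N : X'.Etale) (u : N.left), ∃ W : N.left.Opens, u ∈ W ∧ IsOpenImmersion (W.ι ≫ N.hom))
    (x : Z') : ∃ P : Piece p F, x ∈ goodLocus w σ P := by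
  let ξ := geomPt Z' x
  obtain ⟨N, n, hn, s, hs⟩ := exists_at g F σ (ξ ≫ p') (ξ ≫ p') (Category.comp_id _)
  let N' := (EtCoh.bc p).obj N
  let m : Spec (CommRingCat.of _) ⟶ N'.left :=
    pullback.lift n (ξ ≫ g') (by rw [hn]; simp only [Category.assoc, w])
  obtain ⟨W, hW, hWo⟩ := hZL N' (m default)
  let j := W.ι ≫ N'.hom
  haveI : IsOpenImmersion j := hWo
  let mW := IsOpenImmersion.lift W.ι m (by
    rintro _ ⟨v, rfl⟩
    rw [Scheme.Opens.range_ι, Subsingleton.elim v default]; exact hW)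
  let P : Piece p F :=
    { opn := j.opensRange
      obj := N
      map := j.isoOpensRange.inv ≫ W.ι ≫ bcFst p N
      comm := by
        simp only [Category.assoc]
        rw [show bcFst p N ≫ N.hom = N'.hom ≫ p from pullback.condition, ← Category.assoc W.ι,
          ← Category.assoc, Scheme.Hom.isoOpensRange_inv_comp]
      sec := s }
  let a : Spec (CommRingCat.of _) ⟶ (P.opn : Scheme.{u}) := mW ≫ j.isoOpensRange.hom
  have hjh : j.isoOpensRange.hom ≫ j.opensRange.ι = j := by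
    rw [← Scheme.Hom.isoOpensRange_inv_comp j, Iso.hom_inv_id_assoc]
  have hmW : mW ≫ W.ι = m := IsOpenImmersion.lift_fac _ _ _
  have ha : a ≫ P.opn.ι = ξ ≫ g' := by
    show (mW ≫ j.isoOpensRange.hom) ≫ j.opensRange.ι = _
    rw [Category.assoc, hjh]
    show mW ≫ W.ι ≫ pullback.snd N.hom p = _
    rw [← Category.assoc, hmW]
    exact pullback.lift_snd _ _ _
  have han : a ≫ P.map = n := by
    show (mW ≫ j.isoOpensRange.hom) ≫ j.isoOpensRange.inv ≫ W.ι ≫ bcFst p N = _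
    rw [Category.assoc, Iso.hom_inv_id_assoc, ← Category.assoc, hmW]
    exact pullback.lift_fst _ _ _
  refine ⟨P, ?_⟩
  rw [← geomPt_default x]
  refine (mem_goodLocus_iff w σ P ξ a ha).mpr (hs.congr ?_)
  exact congrArg (fun z => Sets.germ _ F (U := N) z s) (Over.OverMorphism.ext han.symm)

end Match

end Groth.Agent.GabberRig6
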